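import Groth.Agent.Lib.LefPen45.Trilinear
import Mathlib.LinearAlgebra.Matrix.ToLinearEquiv
import Mathlib.RingTheory.Nullstellensatz
import Mathlib.RingTheory.Polynomial.UniqueFactorization

/-!
# T-points of a cubic surface: generalities
-/

set_option autoImplicit false

universe u

open MvPolynomial

namespace Groth.Agent.Lib.LefPen45.TPoints

open Trilinear

variable {K : Type u} [Field K]

local notation "V" => (Fin 4 → K)

/-! ### Linear algebra -/

theorem li_pair {x y : V} (hy : y ≠ 0) (h : x ∉ Submodule.span K {y}) :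
    LinearIndependent K ![x, y] := by
  rw [LinearIndependent.pair_iff]
  intro s t hst
  have hs : s = 0 := by
    by_contra hs
    refine h (Submodule.mem_span_singleton.2 ⟨-(t / s), ?_⟩)
    apply smul_right_injective V hs
    dsimp only
    rw [smul_smul, eq_neg_of_add_eq_zero_left hst]
    rw [← neg_smul]; congr 1; field_simp
  subst hs
  simp [hy] at hst
  exact ⟨rfl, hst⟩

theorem span_eq {U : Submodule K V} (hU : Module.finrank K U = 2) {x y : V} (hx : x ∈ U)
    (hy : y ∈ U) (h : LinearIndependent K ![x, y]) : Submodule.span K {x, y} = U := by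
  refine Submodule.eq_of_le_of_finrank_le (Submodule.span_le.2 (by simp [Set.insert_subset_iff, hx, hy])) ?_
  rw [hU, ← Matrix.range_cons_cons_empty x y ![], finrank_span_eq_card h]
  simp

theorem exists_pair {U : Submodule K V} (hU : Module.finrank K U = 2) :
    ∃ x y, x ∈ U ∧ y ∈ U ∧ LinearIndependent K ![x, y] := by
  let b := Module.finBasisOfFinrankEq K U hU
  refine ⟨(b 0 : V), (b 1 : V), (b 0).2, (b 1).2, ?_⟩
  have h := b.linearIndependent.map' U.subtype (Submodule.ker_subtype U)
  rwa [show (U.subtype ∘ b) = ![(b 0 : V), (b 1 : V)] by funext i; fin_cases i <;> rfl] at h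

theorem exists_snoc {n : ℕ} {v : Fin n → V} (hv : LinearIndependent K v) (hn : n < 4) :
    ∃ y, LinearIndependent K (Fin.snoc v y : Fin (n + 1) → V) :=
  exists_linearIndependent_snoc_of_lt_finrank hv (by simpa using hn)

/-- Coordinates in a basis given by four independent vectors. -/
theorem exists_coord {p q g h : V} (hli : LinearIndependent K ![p, q, g, h]) :
    ∃ φ : Fin 4 → (V →ₗ[K] K), (∀ x, x = φ 0 x • p + φ 1 x • q + φ 2 x • g + φ 3 x • h) ∧
      ∀ i j, φ i (![p, q, g, h] j) = if j = i then 1 else 0 := by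
  let B := basisOfLinearIndependentOfCardEqFinrank hli (by simp)
  have hB : ⇑B = ![p, q, g, h] := coe_basisOfLinearIndependentOfCardEqFinrank _ _
  refine ⟨fun i => B.coord i, fun x => ?_, fun i j => ?_⟩
  · conv_lhs => rw [← B.sum_repr x, hB]
    simp [Fin.sum_univ_four]
  · rw [← hB]; simp [Finsupp.single_apply]

theorem li_four {p q g h : V} (h1 : LinearIndependent K ![p, q]) (h2 : LinearIndependent K ![g, h])
    (hdisj : ∀ a b c e : K, a • p + b • q = c • g + e • h → a • p + b • q = 0) :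
    LinearIndependent K ![p, q, g, h] := by
  rw [Fintype.linearIndependent_iff]
  intro c hc
  simp [Fin.sum_univ_four] at hc
  have e : c 0 • p + c 1 • q = (-c 2) • g + (-c 3) • h := by
    rw [← sub_eq_zero, ← hc]; module
  have e0 := hdisj _ _ _ _ e
  obtain ⟨c0, c1⟩ := LinearIndependent.pair_iff.1 h1 _ _ e0
  rw [c0, c1, zero_smul, zero_smul, zero_add, zero_add] at hc
  obtain ⟨c2, c3⟩ := LinearIndependent.pair_iff.1 h2 _ _ hc
  intro i; fin_cases i <;> assumption

theorem kernel_prop {φ : V →ₗ[K] K} {p q d d' : V} (hd : d ∈ Submodule.span K {p, q})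
    (hd' : d' ∈ Submodule.span K {p, q}) (hne : φ p ≠ 0 ∨ φ q ≠ 0) (h0 : d ≠ 0)
    (hz : φ d = 0) (hz' : φ d' = 0) : ∃ c : K, d' = c • d := by
  obtain ⟨a, b, rfl⟩ := Submodule.mem_span_pair.1 hd
  obtain ⟨a', b', rfl⟩ := Submodule.mem_span_pair.1 hd'
  simp only [map_add, map_smul, smul_eq_mul] at hz hz'
  rcases hne with hp | hq
  · have hb : b ≠ 0 := by
      rintro rfl
      simp [hp] at hz
      simp [hz] at h0
    refine ⟨b' / b, ?_⟩
    have : a' = b' / b * a := by
      field_simp
      apply mul_right_cancel₀ hp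
      linear_combination b * hz' - b' * hz
    rw [this, smul_add, smul_smul, smul_smul, div_mul_cancel₀ _ hb]
  · have ha : a ≠ 0 := by
      rintro rfl
      simp [hq] at hz
      simp [hz] at h0
    refine ⟨a' / a, ?_⟩
    have : b' = a' / a * b := by
      field_simp
      apply mul_right_cancel₀ hq
      linear_combination a * hz' - a' * hz
    rw [this, smul_add, smul_smul, smul_smul, div_mul_cancel₀ _ ha]

/-- Finitely many zero directions of a nonzero form on a plane. -/
theorem dirs {U : Submodule K V} (hU : Module.finrank K U = 2) (c : V → K)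
    (hsc : ∀ (t : K) (x : V), c x = 0 → c (t • x) = 0)
    (hpoly : ∀ g h : V, ∃ P : Polynomial K, ∀ r, P.eval r = c (g + r • h))
    (hne : ∃ x ∈ U, c x ≠ 0) :
    {W : Submodule K V | Module.finrank K W = 1 ∧ W ≤ U ∧ ∀ x ∈ W, c x = 0}.Finite := by
  classical
  obtain ⟨g, hgU, hg⟩ := hne
  by_cases hg0 : g = 0
  · subst hg0
    refine Set.Finite.subset (Set.finite_empty) fun W hW => ?_
    exact hg (hW.2.2 0 W.zero_mem)
  obtain ⟨h, hh⟩ : ∃ h ∈ U, h ∉ Submodule.span K {g} := by
    by_contra hc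
    push Not at hc
    have h1 := Submodule.finrank_mono (show U ≤ Submodule.span K {g} from hc)
    rw [hU, finrank_span_singleton hg0] at h1
    omega
  have hh0 : h ≠ 0 := fun e => hh.2 (e ▸ Submodule.zero_mem _)
  have hspan := span_eq hU hh.1 hgU (li_pair hg0 hh.2)
  obtain ⟨P, hP⟩ := hpoly g h
  have hP0 : P ≠ 0 := fun e => hg (by simpa [e] using (hP 0).symm)
  refine (((Polynomial.finite_setOfPred_isRoot hP0).image fun r => Submodule.span K {g + r • h}).union
    (Set.finite_singleton (Submodule.span K {h}))).subset ?_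
  rintro W ⟨hW1, hWU, hW⟩
  obtain ⟨w, hwW, hw0⟩ := Submodule.exists_mem_ne_zero_of_ne_bot
    (fun e : W = ⊥ => by rw [e, finrank_bot] at hW1; exact zero_ne_one hW1)
  have hWw : W = Submodule.span K {w} :=
    (Submodule.eq_of_le_of_finrank_le ((Submodule.span_singleton_le_iff_mem _ _).2 hwW)
      (by rw [hW1, finrank_span_singleton hw0])).symm
  obtain ⟨a, b, hab⟩ := Submodule.mem_span_pair.1 (hspan ▸ hWU hwW)
  by_cases hb : b = 0
  · right
    subst hb
    rw [zero_smul, add_zero] at hab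
    have ha : a ≠ 0 := by rintro rfl; simp [← hab] at hw0
    rw [Set.mem_singleton_iff, hWw, ← hab, Submodule.span_singleton_smul_eq (isUnit_iff_ne_zero.2 ha)]
  · left
    have e : b⁻¹ • w = g + (b⁻¹ * a) • h := by
      rw [← hab, smul_add, smul_smul, smul_smul, inv_mul_cancel₀ hb, one_smul, add_comm]
    refine ⟨b⁻¹ * a, ?_, ?_⟩
    · show P.eval _ = 0
      rw [hP, ← e]
      exact hsc _ _ (hW w hwW)
    · show Submodule.span K {g + (b⁻¹ * a) • h} = W
      rw [← e, hWw, Submodule.span_singleton_smul_eq (isUnit_iff_ne_zero.2 (inv_ne_zero hb))]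

/-! ### Polynomials on a hyperplane -/

/-- The linear form of a functional. -/
noncomputable def lf (φ : V →ₗ[K] K) : MvPolynomial (Fin 4) K :=
  ∑ i, C (φ (Pi.single i 1)) * X i

theorem eval_lf (φ : V →ₗ[K] K) (x : V) : eval x (lf φ) = φ x := by
  conv_rhs => rw [pi_eq_sum_univ' x]
  simp [lf, mul_comm]

theorem lf_isHomogeneous (φ : V →ₗ[K] K) : (lf φ).IsHomogeneous 1 :=
  IsHomogeneous.sum _ _ _ fun _ _ => isHomogeneous_C_mul_X _ _

theorem dvd_of_vanish [Infinite K] {φ : V →ₗ[K] K} (hφ : φ ≠ 0) {G : MvPolynomial (Fin 4) K}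
    (hG : ∀ x, φ x = 0 → eval x G = 0) : lf φ ∣ G := by
  classical
  obtain ⟨j, hj⟩ : ∃ j, φ (Pi.single j 1) ≠ 0 := by
    by_contra h
    push Not at h
    refine hφ (LinearMap.ext fun x => ?_)
    rw [pi_eq_sum_univ' x]
    simp [h]
  let g : Fin 4 → MvPolynomial (Fin 4) K := fun i =>
    X i - C (if i = j then (φ (Pi.single j 1))⁻¹ else 0) * lf φ
  have h0 : aeval g G = 0 := MvPolynomial.funext fun x => by
    rw [Polar.eval_aeval, map_zero]
    refine hG _ ?_
    rw [show (fun i => eval x (g i)) = x - ((φ (Pi.single j 1))⁻¹ * φ x) • Pi.single j 1 by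
      funext i
      by_cases hi : i = j <;> simp [g, eval_lf, hi]]
    rw [map_sub, map_smul, smul_eq_mul, mul_right_comm, inv_mul_cancel₀ hj, one_mul, sub_self]
  rw [← Ideal.mem_span_singleton, ← Ideal.Quotient.eq_zero_iff_mem]
  have : (Ideal.Quotient.mkₐ K (Ideal.span {lf φ})).comp (aeval g) = Ideal.Quotient.mkₐ K _ := by
    refine algHom_ext fun i => ?_
    simp only [AlgHom.comp_apply, aeval_X, Ideal.Quotient.mkₐ_eq_mk, g, map_sub, map_mul]
    rw [Ideal.Quotient.eq_zero_iff_mem.2 (Ideal.mem_span_singleton_self (lf φ)), mul_zero, sub_zero]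
  have := congrArg (fun f => f G) this
  simp only [AlgHom.comp_apply, h0, map_zero, Ideal.Quotient.mkₐ_eq_mk] at this
  exact this.symm

theorem eq_lf {L : MvPolynomial (Fin 4) K} (hL : L.IsHomogeneous 1) :
    ∃ φ : V →ₗ[K] K, ∀ x, φ x = eval x L := by
  classical
  have hc : ∀ i, ∃ c, pderiv i L = C c := fun i =>
    ⟨_, totalDegree_eq_zero_iff_eq_C.1 (Nat.le_zero.1 (hL.pderiv (i := i)).totalDegree_le)⟩
  choose c hc using hc
  refine ⟨∑ i, c i • LinearMap.proj i, fun x => ?_⟩
  have h := congrArg (eval x) hL.sum_X_mul_pderiv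
  rw [one_nsmul, map_sum] at h
  rw [← h]
  simp [hc, mul_comm]

/-! ### Cubic surfaces -/

variable [IsAlgClosed K] [CharZero K]

/-- An irreducible cubic form defining no cone. -/
structure Good (F : MvPolynomial (Fin 4) K) : Prop where
  hom : F.IsHomogeneous 3
  irr : Irreducible F
  cone : ∀ v : V, v ≠ 0 → ∃ x, T F x x v ≠ 0

variable {F : MvPolynomial (Fin 4) K}

/-- A line of the surface. -/
def IsLn (F : MvPolynomial (Fin 4) K) (U : Submodule K V) : Prop :=
  Module.finrank K U = 2 ∧ ∀ u ∈ U, T F u u u = 0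

/-- A singular point. -/
def Sg (F : MvPolynomial (Fin 4) K) (p : V) : Prop := ∀ y, T F p p y = 0

/-- A T-point. -/
def TP (F : MvPolynomial (Fin 4) K) (b : V) : Prop :=
  b ≠ 0 ∧ T F b b b = 0 ∧ (∃ y, T F b b y ≠ 0) ∧
    ∃ L : Fin 3 → (V →ₗ[K] K), ∀ x, T F b b x = 0 → T F x x x = L 0 x * L 1 x * L 2 x

theorem no_hyperplane (hF : Good F) {φ : V →ₗ[K] K} (hφ : φ ≠ 0) :
    ∃ x, φ x = 0 ∧ T F x x x ≠ 0 := by
  by_contra hcon
  push Not at hcon
  obtain ⟨G, hG⟩ := dvd_of_vanish hφ (G := F) fun x hx => by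
    rw [eval_eq hF.hom]; exact hcon x hx
  rcases hF.irr.isUnit_or_isUnit hG with h | h
  · have := h.map (eval (0 : V))
    rw [eval_lf, map_zero] at this
    exact not_isUnit_zero this
  · obtain ⟨c, -, rfl⟩ := MvPolynomial.isUnit_iff_eq_C_of_isReduced.1 h
    refine hF.irr.ne_zero (MvPolynomial.funext fun x => ?_)
    have e : ∀ y, eval y F = φ y * c := fun y => by rw [hG]; simp [eval_lf]
    have h2 := eval_eq hF.hom ((2 : K) • x)
    rw [smul1, smul2, smul3, ← eval_eq hF.hom, e, e, map_smul, smul_eq_mul] at h2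
    rw [map_zero, e]
    linear_combination (-1/6 : K) * h2

theorem line_tangent {U : Submodule K V} (hU : ∀ u ∈ U, T F u u u = 0) {u v : V} (hu : u ∈ U)
    (hv : v ∈ U) : T F u u v = 0 := by
  have h1 := hU _ (U.add_mem hu hv)
  have h2 := hU _ (U.add_mem hu (U.smul_mem (-1) hv))
  rw [expand_cube] at h1 h2
  simp only [smul1, smul2, smul3, hU u hu, hU v hv] at h1 h2
  linear_combination (1/6 : K) * h1 - (1/6 : K) * h2

theorem poly_path (hF : Good F) (P : Fin 4 → Polynomial K) :
    ∃ Φ : Polynomial K, ∀ r, Φ.eval r =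
      T F (fun i => (P i).eval r) (fun i => (P i).eval r) (fun i => (P i).eval r) := by
  refine ⟨aeval P F, fun r => ?_⟩
  rw [← eval_eq hF.hom]
  have key : ∀ G : MvPolynomial (Fin 4) K,
      (aeval P G).eval r = eval (fun i => (P i).eval r) G := fun G => by
    induction G using MvPolynomial.induction_on with
    | C a => simp
    | add p q hp hq => simp [hp, hq]
    | mul_X p l h => simp [h]
  exact key F

/-- A nonzero quadric `T x x p = 0` is not contained in the surface. -/
theorem no_quadric (hF : Good F) {p : V} (hp : p ≠ 0) :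
    ∃ x, T F x x p = 0 ∧ T F x x x ≠ 0 := by
  classical
  by_contra hcon
  push Not at hcon
  let Q : MvPolynomial (Fin 4) K :=
    ∑ i, ∑ j, C (T F (Pi.single i 1) (Pi.single j 1) p) * (X i * X j)
  have hQ : ∀ x, eval x Q = T F x x p := fun x => by
    have e : ∀ u v : V, T F u v p = ∑ j, v j * T F u (Pi.single j 1) p := fun u v => by
      rw [s23]
      conv_lhs => rw [pi_eq_sum_univ' v, ← lin_apply]
      rw [map_sum]
      refine Finset.sum_congr rfl fun j _ => ?_
      rw [map_smul, lin_apply, smul_eq_mul, s23 u p]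
    simp only [Q, map_sum, map_mul, eval_C, eval_X]
    rw [e x x]
    simp only [s12 x (Pi.single _ 1), e (Pi.single _ 1) x, Finset.mul_sum]
    exact Finset.sum_congr rfl fun i _ => Finset.sum_congr rfl fun j _ => by ring
  have hQ0 : Q ≠ 0 := fun h => by
    obtain ⟨x, hx⟩ := hF.cone p hp
    exact hx (by rw [← hQ, h, map_zero])
  have hQu : ¬ IsUnit Q := fun h => by
    have := h.map (eval (0 : V))
    rw [hQ, zero1] at this
    exact not_isUnit_zero this
  have hmem : F ∈ (Ideal.span {Q}).radical := by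
    rw [← MvPolynomial.vanishingIdeal_zeroLocus_eq_radical (K := K), MvPolynomial.mem_vanishingIdeal_iff]
    intro x hx
    rw [aeval_eq_eval, eval_eq hF.hom]
    refine hcon x ?_
    rw [← hQ, ← aeval_eq_eval]
    exact hx Q (Ideal.subset_span rfl)
  obtain ⟨n, hn⟩ := hmem
  rw [Ideal.mem_span_singleton] at hn
  obtain ⟨π, hπ, hπQ⟩ := WfDvdMonoid.exists_irreducible_factor hQu hQ0
  have hπF : π ∣ F := hπ.prime.dvd_of_dvd_pow (hπQ.trans hn)
  have hFQ : F ∣ Q := (hπ.associated_of_dvd hF.irr hπF).symm.dvd.trans hπQ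
  obtain ⟨G, hG⟩ := hFQ
  have hdQ : Q.totalDegree ≤ 2 := IsHomogeneous.totalDegree_le <|
    IsHomogeneous.sum _ _ _ fun i _ => IsHomogeneous.sum _ _ _ fun j _ =>
      ((isHomogeneous_X K i).mul (isHomogeneous_X K j)).C_mul _
  rw [hG, totalDegree_mul_of_isDomain hF.irr.ne_zero (right_ne_zero_of_mul (hG ▸ hQ0)),
    hF.hom.totalDegree hF.irr.ne_zero] at hdQ
  omega

theorem factor_binary (A B C' : K) :
    ∃ a b c e : K, ∀ s t : K, A * s ^ 2 + B * s * t + C' * t ^ 2 = (a * s + b * t) * (c * s + e * t) := by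
  by_cases hA : A = 0
  · exact ⟨0, 1, B, C', fun s t => by rw [hA]; ring⟩
  obtain ⟨r, hr⟩ := IsAlgClosed.exists_root
    (Polynomial.C A * Polynomial.X ^ 2 + Polynomial.C B * Polynomial.X + Polynomial.C C')
    (by rw [Polynomial.degree_quadratic hA]; decide)
  simp only [Polynomial.IsRoot, Polynomial.eval_add, Polynomial.eval_mul, Polynomial.eval_C,
    Polynomial.eval_pow, Polynomial.eval_X] at hr
  exact ⟨1, -r, A, B + A * r, fun s t => by linear_combination t ^ 2 * hr⟩

theorem exists_zero (φ : V → K) {g h : V} (A B C' : K) (hA : φ g = A)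
    (hφ : ∀ s, φ (s • g + h) = A * s ^ 2 + B * s + C') (hli : LinearIndependent K ![g, h]) :
    ∃ x, x ≠ 0 ∧ x ∈ Submodule.span K {g, h} ∧ φ x = 0 := by
  by_cases hA0 : A = 0
  · exact ⟨g, by simpa using hli.ne_zero 0, Submodule.subset_span (by simp), hA.trans hA0⟩
  obtain ⟨r, hr⟩ := IsAlgClosed.exists_root
    (Polynomial.C A * Polynomial.X ^ 2 + Polynomial.C B * Polynomial.X + Polynomial.C C')
    (by rw [Polynomial.degree_quadratic hA0]; decide)
  simp only [Polynomial.IsRoot, Polynomial.eval_add, Polynomial.eval_mul, Polynomial.eval_C,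
    Polynomial.eval_pow, Polynomial.eval_X] at hr
  refine ⟨r • g + h, fun e => ?_, Submodule.mem_span_pair.2 ⟨r, 1, by simp⟩, (hφ r).trans hr⟩
  exact one_ne_zero (LinearIndependent.pair_iff.1 hli r 1 (by simpa using e)).2

theorem exists_isotropic (p : V) {g h : V} (hli : LinearIndependent K ![g, h]) :
    ∃ x, x ≠ 0 ∧ x ∈ Submodule.span K {g, h} ∧ T F x x p = 0 := by
  refine exists_zero (fun x => T F x x p) (T F g g p) (2 * T F g h p) (T F h h p) rfl (fun s => ?_) hli
  show T F (s • g + h) (s • g + h) p = _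
  rw [expand_add]
  simp only [smul1, smul2]
  ring

end Groth.Agent.Lib.LefPen45.TPoints
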