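import Groth.Agent.Lib.LefPen45.TP.Basic

/-!
# T-points of a cubic surface: a double line
-/

set_option autoImplicit false

universe u

open MvPolynomial

namespace Groth.Agent.Lib.LefPen45.TPoints

open Trilinear

variable {K : Type u} [Field K]

local notation "V" => (Fin 4 → K)

variable [IsAlgClosed K] [CharZero K] {F : MvPolynomial (Fin 4) K}

/-- A T-point lies on two lines coming from two factors. -/
theorem tp_lines (hF : Good F) {b : V} (hb : TP F b) :
    ∃ U₁ U₂ : Submodule K V, IsLn F U₁ ∧ IsLn F U₂ ∧ b ∈ U₁ ∧ b ∈ U₂ ∧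
      (∀ y ∈ U₁, T F b b y = 0) ∧ (∀ y ∈ U₂, T F b b y = 0) ∧
      (U₁ = U₂ → ∀ z ∈ U₁, ∀ y, T F b b y = 0 → T F z z y = 0) := by
  obtain ⟨hb0, hFb, hsm, L, hL⟩ := hb
  have hφ : lin F b b ≠ 0 := fun h => by
    obtain ⟨y, hy⟩ := hsm
    exact hy (by simpa using congrArg (fun f => f y) h)
  set H := LinearMap.ker (lin F b b) with hHdef
  have hH : Module.finrank K H + 1 = 4 := by
    rw [Module.Dual.finrank_ker_add_one_of_ne_zero hφ]; simp
  have hnz : ∀ i, ∃ y ∈ H, L i y ≠ 0 := fun i => by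
    by_contra hcon
    push Not at hcon
    obtain ⟨x, hx, hx3⟩ := no_hyperplane hF hφ
    refine hx3 ((hL x (by simpa using hx)).trans ?_)
    have := hcon x hx
    fin_cases i <;> simp_all
  have hline : ∀ i, IsLn F (H ⊓ LinearMap.ker (L i)) := fun i => by
    obtain ⟨y, hyH, hyL⟩ := hnz i
    refine ⟨?_, fun u hu => ?_⟩
    · have hL0 : L i ≠ 0 := fun h => hyL (by simp [h])
      have hKi : Module.finrank K (LinearMap.ker (L i)) + 1 = 4 := by
        rw [Module.Dual.finrank_ker_add_one_of_ne_zero hL0]; simp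
      have hsum := Submodule.finrank_sup_add_finrank_inf_eq H (LinearMap.ker (L i))
      have hlt : H ⊓ LinearMap.ker (L i) < H := lt_of_le_of_ne inf_le_left fun e => hyL (by
        have : y ∈ H ⊓ LinearMap.ker (L i) := e.symm ▸ hyH
        exact this.2)
      have h1 := Submodule.finrank_lt_finrank_of_lt hlt
      have h2 := (H ⊔ LinearMap.ker (L i)).finrank_le
      simp at h2
      omega
    · obtain ⟨hu1, hu2⟩ := hu
      rw [hL u (show T F b b u = 0 from hu1)]
      simp at hu2
      fin_cases i <;> simp_all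
  have hperm : ∀ i j l : Fin 3, i ≠ j → i ≠ l → j ≠ l →
      ∀ v, L 0 v * L 1 v * L 2 v = L i v * L j v * L l v := by
    intro i j l h1 h2 h3 v
    fin_cases i <;> fin_cases j <;> fin_cases l <;>
      first | exact absurd rfl h1 | exact absurd rfl h2 | exact absurd rfl h3 | (dsimp; try ring)
  have key : ∀ i j l : Fin 3, i ≠ j → i ≠ l → j ≠ l → L i b = 0 → L j b ≠ 0 → L l b ≠ 0 → False := by
    intro i j l hij hil hjl hi hj hl
    obtain ⟨y, hyH, hyL⟩ := hnz i
    have hy : T F b b y = 0 := hyH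
    have hmem : ∀ s : K, T F b b (b + s • y) = 0 := fun s => by simp [add3, smul3, hFb, hy]
    have hprod : ∀ s : K, T F (b + s • y) (b + s • y) (b + s • y) =
        (L i b + s * L i y) * (L j b + s * L j y) * (L l b + s * L l y) := fun s => by
      rw [hL _ (hmem s), hperm i j l hij hil hjl]
      simp only [map_add, map_smul, smul_eq_mul]
    have e1 := hprod 1
    have e2 := hprod (-1)
    have e3 := hprod 2
    simp only [expand_cube, smul1, smul2, smul3, hFb, hy, hi] at e1 e2 e3
    refine mul_ne_zero (mul_ne_zero hyL hj) hl ?_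
    linear_combination (-1 : K) * e1 + (1/3 : K) * e2 + (1/6 : K) * e3
  obtain ⟨i, j, hij, hi, hj⟩ : ∃ i j : Fin 3, i ≠ j ∧ L i b = 0 ∧ L j b = 0 := by
    have h := hL b hFb
    rw [hFb, eq_comm, mul_eq_zero, mul_eq_zero] at h
    by_contra hcon
    push Not at hcon
    rcases h with (h | h) | h
    · exact key 0 1 2 (by decide) (by decide) (by decide) h (hcon 0 1 (by decide) h)
        (hcon 0 2 (by decide) h)
    · exact key 1 0 2 (by decide) (by decide) (by decide) h (hcon 1 0 (by decide) h)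
        (hcon 1 2 (by decide) h)
    · exact key 2 0 1 (by decide) (by decide) (by decide) h (hcon 2 0 (by decide) h)
        (hcon 2 1 (by decide) h)
  refine ⟨_, _, hline i, hline j, ⟨hFb, hi⟩, ⟨hFb, hj⟩,
    fun y hy => hy.1, fun y hy => hy.1, fun e z hz y hy => ?_⟩
  obtain ⟨l, hil, hjl⟩ := (show ∀ i j : Fin 3, i ≠ j → ∃ l, i ≠ l ∧ j ≠ l by decide) i j hij
  obtain ⟨hzH, hzi⟩ := hz
  have hzj : L j z = 0 := by
    have : z ∈ H ⊓ LinearMap.ker (L j) := e ▸ ⟨hzH, hzi⟩
    exact this.2
  have hzi' : L i z = 0 := hzi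
  have hzH' : T F b b z = 0 := hzH
  have hp : ∀ s : K, T F (z + s • y) (z + s • y) (z + s • y) =
      s ^ 2 * (L i y * L j y) * (L l z + s * L l y) := fun s => by
    rw [hL _ (by simp [add3, smul3, hzH', hy]), hperm i j l hij hil hjl]
    simp only [map_add, map_smul, smul_eq_mul, hzi', hzj]
    ring
  have e0 := hp 0
  have e1 := hp 1
  have e2 := hp (-1)
  have e3 := hL y hy
  have e4 : T F y y y = L i y * L j y * L l y := by
    rw [e3, hperm i j l hij hil hjl]
  simp only [expand_cube, smul1, smul2, smul3, e4] at e0 e1 e2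
  linear_combination (1/6 : K) * e1 - (1/6 : K) * e2

section Double

variable {p q : Fin 4 → K} (hF : Good F) (hpq : LinearIndependent K ![p, q])
  (hD : ∀ d ∈ Submodule.span K {p, q}, Sg F d)
include hpq hD

omit hpq in
theorem double_zero {d e : V} (hd : d ∈ Submodule.span K {p, q}) (he : e ∈ Submodule.span K {p, q})
    (y : V) : T F d e y = 0 := by
  have h := hD _ (add_mem hd he) y
  rw [expand_add, hD d hd, hD e he] at h
  linear_combination (1/2 : K) * h

omit hpq in
theorem shift_eq {d : V} (hd : d ∈ Submodule.span K {p, q}) (x : V) :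
    T F (x + d) (x + d) (x + d) = T F x x x + 3 * T F x x d := by
  rw [expand_cube, hD d hd, hD d hd]; ring

include hF in
theorem not_both {x : V} (hx : x ∉ Submodule.span K {p, q}) (hFx : T F x x x = 0) :
    T F x x p ≠ 0 ∨ T F x x q ≠ 0 := by
  by_contra hcon
  push Not at hcon
  have hx0 : x ≠ 0 := fun e => hx (e ▸ Submodule.zero_mem _)
  have hli : LinearIndependent K ![p, q, x] := by
    rw [Fintype.linearIndependent_iff]
    intro c hc
    simp [Fin.sum_univ_three] at hc
    have h2 : c 2 = 0 := by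
      by_contra h2
      refine hx (Submodule.mem_span_pair.2 ⟨-(c 0 / c 2), -(c 1 / c 2), ?_⟩)
      apply smul_right_injective (Fin 4 → K) h2
      dsimp only
      rw [eq_neg_of_add_eq_zero_right hc]
      match_scalars <;> field_simp
    rw [h2, zero_smul, add_zero] at hc
    obtain ⟨a, b⟩ := LinearIndependent.pair_iff.1 hpq _ _ hc
    intro i; fin_cases i <;> assumption
  obtain ⟨z, hz⟩ := exists_snoc hli (by norm_num)
  have hl4 : LinearIndependent K ![p, q, x, z] := by
    convert hz using 1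
    funext i; fin_cases i <;> simp [Fin.snoc] <;> rfl
  obtain ⟨φ, hφ, hφd⟩ := exists_coord hl4
  obtain ⟨y, hy, hy3⟩ := no_hyperplane hF (φ := φ 3) fun h => by
    have := congrArg (fun f => f z) h
    simp [show φ 3 z = 1 by simpa using hφd 3 3] at this
  refine hy3 ?_
  rw [hφ y, hy, zero_smul, add_zero, add_comm]
  rw [shift_eq hD (Submodule.mem_span_pair.2 ⟨_, _, rfl⟩)]
  simp only [smul1, smul2, smul3, add3, hFx, hcon.1, hcon.2]
  ring

include hF in
theorem finite_skew :
    {E : Submodule K V | IsLn F E ∧ E ⊓ Submodule.span K {p, q} = ⊥}.Subsingleton := by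
  rintro E ⟨hE, hEd⟩ E' ⟨hE', hEd'⟩
  have hmemE : ∀ {u : V}, u ∈ E → u ∈ Submodule.span K {p, q} → u = 0 := fun h1 h2 => by
    have : _ ∈ E ⊓ Submodule.span K {p, q} := ⟨h1, h2⟩
    rwa [hEd, Submodule.mem_bot] at this
  obtain ⟨g₀, h₀, hg₀, hh₀, hgh₀⟩ := exists_pair hE.1
  obtain ⟨g, hg0, hgspan, hgP⟩ := exists_isotropic (F := F) p hgh₀
  have hgE : g ∈ E := Submodule.span_le.2 (by simp [Set.insert_subset_iff, hg₀, hh₀]) hgspan
  obtain ⟨h, hhE, hhg⟩ : ∃ h ∈ E, h ∉ Submodule.span K {g} := by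
    by_contra hc
    push Not at hc
    have h1 := Submodule.finrank_mono (show E ≤ Submodule.span K {g} from hc)
    rw [hE.1, finrank_span_singleton hg0] at h1
    omega
  have hgh : LinearIndependent K ![g, h] := LinearIndependent.pair_symm_iff.1 (li_pair hg0 hhg)
  have hli : LinearIndependent K ![p, q, g, h] := li_four hpq hgh fun a b c e he =>
    hmemE (he ▸ E.add_mem (E.smul_mem _ hgE) (E.smul_mem _ hhE)) (Submodule.mem_span_pair.2 ⟨a, b, rfl⟩)
  obtain ⟨φ, hφ, hφd⟩ := exists_coord hli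
  let π : ↥E' →ₗ[K] (Fin 2 → K) := LinearMap.pi ![(φ 2).comp E'.subtype, (φ 3).comp E'.subtype]
  have hπ : Function.Injective π := by
    rw [← LinearMap.ker_eq_bot, LinearMap.ker_eq_bot']
    intro u hu
    have h2 : φ 2 (u : V) = 0 := by simpa [π] using congrFun hu 0
    have h3 : φ 3 (u : V) = 0 := by simpa [π] using congrFun hu 1
    have : (u : V) ∈ E' ⊓ Submodule.span K {p, q} := ⟨u.2, Submodule.mem_span_pair.2
      ⟨φ 0 u, φ 1 u, by conv_rhs => rw [hφ (u : V), h2, h3]; simp⟩⟩
    rw [hEd', Submodule.mem_bot] at this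
    exact Subtype.ext this
  have hsurj : Function.Surjective π :=
    (LinearMap.injective_iff_surjective_of_finrank_eq_finrank (by simp [hE'.1])).1 hπ
  obtain ⟨g', hg'⟩ := hsurj ![1, 0]
  obtain ⟨h', hh'⟩ := hsurj ![0, 1]
  have eg : (g' : V) = (φ 0 g' • p + φ 1 g' • q) + g := by
    have h2 : φ 2 (g' : V) = 1 := by simpa [π] using congrFun hg' 0
    have h3 : φ 3 (g' : V) = 0 := by simpa [π] using congrFun hg' 1
    conv_lhs => rw [hφ (g' : V), h2, h3]
    simp
  have eh : (h' : V) = (φ 0 h' • p + φ 1 h' • q) + h := by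
    have h2 : φ 2 (h' : V) = 0 := by simpa [π] using congrFun hh' 0
    have h3 : φ 3 (h' : V) = 1 := by simpa [π] using congrFun hh' 1
    conv_lhs => rw [hφ (h' : V), h2, h3]
    simp
  set α := φ 0 (g' : V)
  set β := φ 1 (g' : V)
  set γ := φ 0 (h' : V)
  set δ := φ 1 (h' : V)
  have heq : ∀ s t : K, (α * s + γ * t) * T F (s • g + t • h) (s • g + t • h) p +
      (β * s + δ * t) * T F (s • g + t • h) (s • g + t • h) q = 0 := fun s t => by
    have hu : s • g + t • h ∈ E := E.add_mem (E.smul_mem _ hgE) (E.smul_mem _ hhE)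
    have hd : (α * s + γ * t) • p + (β * s + δ * t) • q ∈ Submodule.span K {p, q} :=
      Submodule.mem_span_pair.2 ⟨_, _, rfl⟩
    have h0 : T F (s • g + t • h + ((α * s + γ * t) • p + (β * s + δ * t) • q))
        (s • g + t • h + ((α * s + γ * t) • p + (β * s + δ * t) • q))
        (s • g + t • h + ((α * s + γ * t) • p + (β * s + δ * t) • q)) = 0 := by
      refine hE'.2 _ ?_
      have := E'.add_mem (E'.smul_mem s g'.2) (E'.smul_mem t h'.2)
      convert this using 1
      rw [eg, eh]; module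
    rw [shift_eq hD hd, hE.2 _ hu, add3, smul3, smul3] at h0
    linear_combination (1/3 : K) * h0
  set b0 := T F g g q
  set b1 := T F g h q
  set b2 := T F h h q
  set a1 := T F g h p
  set a2 := T F h h p
  have nz : ∀ s t : K, ¬ (s = 0 ∧ t = 0) →
      2 * a1 * s * t + a2 * t ^ 2 = 0 → b0 * s ^ 2 + 2 * b1 * s * t + b2 * t ^ 2 ≠ 0 := by
    intro s t hst hP hQ
    have hu : s • g + t • h ∈ E := E.add_mem (E.smul_mem _ hgE) (E.smul_mem _ hhE)
    have hx : s • g + t • h ∉ Submodule.span K {p, q} := fun hc =>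
      hst (LinearIndependent.pair_iff.1 hgh s t (hmemE hu hc))
    rcases not_both hF hpq hD hx (hE.2 _ hu) with hh | hh
    · refine hh ?_
      rw [expand_add]; simp only [smul1, smul2, hgP]
      linear_combination hP
    · refine hh ?_
      rw [expand_add]; simp only [smul1, smul2]
      linear_combination hQ
  have hb0 : b0 ≠ 0 := fun h0 => nz 1 0 (by simp) (by ring) (by linear_combination h0)
  have eq : ∀ s t : K, (α * s + γ * t) * (2 * a1 * s * t + a2 * t ^ 2) +
      (β * s + δ * t) * (b0 * s ^ 2 + 2 * b1 * s * t + b2 * t ^ 2) = 0 := fun s t => by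
    have h := heq s t
    rw [expand_add, expand_add] at h
    simp only [smul1, smul2, hgP] at h
    linear_combination h
  have q10 := eq 1 0
  have q01 := eq 0 1
  have q11 := eq 1 1
  have q1m := eq 1 (-1)
  have hβ : β = 0 := mul_right_cancel₀ hb0 (show β * b0 = 0 * b0 by linear_combination q10)
  rw [hβ] at q11 q1m q01
  have c1 : 2 * α * a1 + δ * b0 = 0 := by
    linear_combination (1/2 : K) * q11 - (1/2 : K) * q1m - q01
  have c2 : α * a2 + 2 * γ * a1 + 2 * δ * b1 = 0 := by
    linear_combination (1/2 : K) * q11 + (1/2 : K) * q1m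
  have c3 : γ * a2 + δ * b2 = 0 := by linear_combination q01
  have h0 : α = 0 ∧ γ = 0 ∧ δ = 0 := by
    by_cases ha1 : a1 = 0
    · have hδ : δ = 0 := by
        refine mul_right_cancel₀ hb0 (show δ * b0 = 0 * b0 from ?_)
        linear_combination c1 - 2 * α * ha1
      have ha2 : a2 ≠ 0 := by
        intro ha2
        -- `P` vanishes on the whole line, so a zero of `Q` is a common zero
        obtain ⟨r, hr⟩ := IsAlgClosed.exists_root
          (Polynomial.C b0 * Polynomial.X ^ 2 + Polynomial.C (2 * b1) * Polynomial.X + Polynomial.C b2)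
          (by rw [Polynomial.degree_quadratic hb0]; decide)
        simp only [Polynomial.IsRoot, Polynomial.eval_add, Polynomial.eval_mul, Polynomial.eval_C,
          Polynomial.eval_pow, Polynomial.eval_X] at hr
        exact nz r 1 (by simp) (by rw [ha1, ha2]; ring) (by linear_combination hr)
      refine ⟨mul_right_cancel₀ ha2 (show α * a2 = 0 * a2 from ?_),
        mul_right_cancel₀ ha2 (show γ * a2 = 0 * a2 from ?_), hδ⟩
      · linear_combination c2 - 2 * γ * ha1 - 2 * b1 * hδ
      · linear_combination c3 - b2 * hδ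
    · have hne := nz a2 (-2 * a1) (by simp [ha1]) (by ring)
      have hδ : δ = 0 := by
        refine mul_right_cancel₀ hne (show δ * _ = 0 * _ from ?_)
        linear_combination a2 ^ 2 * c1 - 2 * a1 * a2 * c2 + 4 * a1 ^ 2 * c3
      have hα : α = 0 := by
        refine mul_right_cancel₀ ha1 (show α * a1 = 0 * a1 from ?_)
        linear_combination (1/2 : K) * c1 - (1/2 : K) * b0 * hδ
      refine ⟨hα, mul_right_cancel₀ ha1 (show γ * a1 = 0 * a1 from ?_), hδ⟩
      linear_combination (1/2 : K) * c2 - (1/2 : K) * a2 * hα - b1 * hδ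
  rw [hβ, h0.1] at eg
  rw [h0.2.1, h0.2.2] at eh
  simp only [zero_smul, zero_add] at eg eh
  calc E = Submodule.span K {g, h} := (span_eq hE.1 hgE hhE hgh).symm
    _ = E' := span_eq hE'.1 (eg ▸ g'.2) (eh ▸ h'.2) hgh

include hF in
theorem finite_torsal :
    {R : Submodule K V | IsLn F R ∧ ∃ x ∈ R, x ∉ Submodule.span K {p, q} ∧
      ∃ d ∈ Submodule.span K {p, q}, d ≠ 0 ∧ d ∈ R ∧ ∀ y, T F x d y = 0}.Finite := by
  obtain ⟨g, hg⟩ := exists_snoc hpq (by norm_num)
  obtain ⟨h, hh⟩ := exists_snoc hg (by norm_num)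
  have hli : LinearIndependent K ![p, q, g, h] := by
    convert hh using 1
    funext i; fin_cases i <;> simp [Fin.snoc]
  obtain ⟨φ, hφ, hφd⟩ := exists_coord hli
  have hgh : LinearIndependent K ![g, h] := by
    convert hli.comp ![2, 3] (by decide) using 1
    funext i; fin_cases i <;> rfl
  let R₀ : Submodule K V := Submodule.span K {g, h}
  have hR₀ : Module.finrank K R₀ = 2 := by
    rw [show R₀ = Submodule.span K (Set.range ![g, h]) by rw [Matrix.range_cons_cons_empty],
      finrank_span_eq_card hgh]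
    simp
  let J : V → K := fun u => T F u p g * T F u q h - T F u p h * T F u q g
  have hJne : ∃ u ∈ R₀, J u ≠ 0 := by
    by_contra hcon
    push Not at hcon
    have j1 := hcon g (Submodule.subset_span (by simp))
    have j2 := hcon h (Submodule.subset_span (by simp))
    have j3 := hcon (g + h) (add_mem (Submodule.subset_span (by simp)) (Submodule.subset_span (by simp)))
    simp only [J, add1] at j1 j2 j3
    set a11 := T F g p g
    set a12 := T F g p h
    set a22 := T F h p h
    set b11 := T F g q g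
    set b12 := T F g q h
    set b22 := T F h q h
    have e1 : T F h p g = a12 := s13 _ _ _
    have e2 : T F h q g = b12 := s13 _ _ _
    rw [e1, e2] at j2 j3
    have j12 : a11 * b22 - a22 * b11 = 0 := by linear_combination j3 - j1 - j2
    obtain ⟨d, hd, hd0, h11, h12, h22⟩ : ∃ d ∈ Submodule.span K {p, q}, d ≠ 0 ∧
        T F g d g = 0 ∧ T F g d h = 0 ∧ T F h d h = 0 := by
      have hp0 : p ≠ 0 := by simpa using hpq.ne_zero 0
      have hne : ∀ s t : K, ¬ (s = 0 ∧ t = 0) → s • p + t • q ≠ 0 := fun s t h e =>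
        h (LinearIndependent.pair_iff.1 hpq s t e)
      by_cases h11 : a11 = 0
      · by_cases h12 : a12 = 0
        · by_cases h22 : a22 = 0
          · exact ⟨p, Submodule.subset_span (by simp), hp0, h11, h12, h22⟩
          · refine ⟨b22 • p + (-a22) • q, Submodule.mem_span_pair.2 ⟨_, _, rfl⟩,
              hne _ _ (by simp [h22]), ?_, ?_, ?_⟩ <;> simp only [add2, smul2]
            · linear_combination j12
            · linear_combination j2
            · ring
        · refine ⟨b12 • p + (-a12) • q, Submodule.mem_span_pair.2 ⟨_, _, rfl⟩,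
            hne _ _ (by simp [h12]), ?_, ?_, ?_⟩ <;> simp only [add2, smul2]
          · linear_combination j1
          · ring
          · linear_combination -j2
      · refine ⟨b11 • p + (-a11) • q, Submodule.mem_span_pair.2 ⟨_, _, rfl⟩,
          hne _ _ (by simp [h11]), ?_, ?_, ?_⟩ <;> simp only [add2, smul2]
        · ring
        · linear_combination -j1
        · linear_combination -j12
    obtain ⟨x, hx⟩ := hF.cone d hd0
    refine hx ?_
    rw [hφ x, s23, add_assoc, add1]
    set e := φ 0 x • p + φ 1 x • q with he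
    have hed : e ∈ Submodule.span K {p, q} := Submodule.mem_span_pair.2 ⟨_, _, rfl⟩
    rw [double_zero hD hed hd, add3 _ d e, s13 (φ 2 x • g + φ 3 x • h) d e, double_zero hD hed hd]
    simp only [add1, add3, smul1, smul3, h11, h12, h22, s13 h d g]
    ring
  have hfin := dirs hR₀ J
    (fun t x hx => by simp only [J, smul1] at hx ⊢; linear_combination t ^ 2 * hx)
    (fun g' h' => ⟨(Polynomial.C (T F g' p g) + Polynomial.C (T F h' p g) * Polynomial.X) *
        (Polynomial.C (T F g' q h) + Polynomial.C (T F h' q h) * Polynomial.X) -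
        (Polynomial.C (T F g' p h) + Polynomial.C (T F h' p h) * Polynomial.X) *
        (Polynomial.C (T F g' q g) + Polynomial.C (T F h' q g) * Polynomial.X), fun r => by
      simp only [J, add1, smul1, Polynomial.eval_sub, Polynomial.eval_add, Polynomial.eval_mul,
        Polynomial.eval_C, Polynomial.eval_X]
      ring⟩) hJne
  refine (hfin.biUnion fun W hW => show {R : Submodule K V | IsLn F R ∧ ∃ x ∈ R,
    x ∉ Submodule.span K {p, q} ∧ φ 2 x • g + φ 3 x • h ∈ W ∧
      ∃ d ∈ Submodule.span K {p, q}, d ≠ 0 ∧ d ∈ R}.Finite from Set.Subsingleton.finite ?_).subset ?_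
  · rintro R ⟨hR, x, hxR, hxD, hxW, d, hd, hd0, hdR⟩ R' ⟨hR', x', hxR', hxD', hxW', d', hd', hd0', hdR'⟩
    set u := φ 2 x • g + φ 3 x • h with hu
    have hu0 : u ≠ 0 := fun e => hxD (Submodule.mem_span_pair.2 ⟨φ 0 x, φ 1 x, by
      conv_rhs => rw [hφ x, add_assoc, ← hu, e, add_zero]⟩)
    have hWu : W = Submodule.span K {u} :=
      (Submodule.eq_of_le_of_finrank_le ((Submodule.span_singleton_le_iff_mem _ _).2 hxW)
        (by rw [hW.1, finrank_span_singleton hu0])).symm
    obtain ⟨c, hc⟩ := Submodule.mem_span_singleton.1 (hWu ▸ hxW')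
    have hδ : x' - c • x ∈ Submodule.span K {p, q} :=
      Submodule.mem_span_pair.2 ⟨φ 0 x' - c * φ 0 x, φ 1 x' - c * φ 1 x, by
        conv_rhs => rw [hφ x', hφ x]
        rw [add_assoc _ (φ 2 x • g), add_assoc _ (φ 2 x' • g), ← hc]; module⟩
    set δ := x' - c • x with hδdef
    have hx' : x' = c • x + δ := (add_sub_cancel _ _).symm
    have hc0 : c ≠ 0 := fun e => hxD' (by rw [hx', e, zero_smul, zero_add]; exact hδ)
    have hne := not_both hF hpq hD hxD (hR.2 x hxR)
    have hxd : T F x x d = 0 := line_tangent hR.2 hxR hdR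
    have hxδ : T F x x δ = 0 := by
      have h := hR'.2 x' hxR'
      rw [hx', shift_eq hD hδ] at h
      simp only [smul1, smul2, smul3, hR.2 x hxR, mul_zero, zero_add] at h
      simpa [hc0] using h
    have hxd' : T F x x d' = 0 := by
      have h := line_tangent hR'.2 hxR' hdR'
      rw [hx', expand_add] at h
      simp only [smul1, smul2] at h
      rw [s13 x δ d', s12 d' δ x, double_zero hD hδ hd', double_zero hD hδ hδ] at h
      simpa [hc0] using h
    have key : ∀ e ∈ Submodule.span K {p, q}, T F x x e = 0 → e ∈ R := fun e he hxe => by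
      obtain ⟨t, rfl⟩ := kernel_prop (φ := lin F x x) hd he hne hd0 hxd hxe
      exact R.smul_mem _ hdR
    have hx'R : x' ∈ R := hx' ▸ R.add_mem (R.smul_mem _ hxR) (key δ hδ hxδ)
    have hli' : LinearIndependent K ![x', d'] := li_pair hd0' fun hmem => hxD'
      ((Submodule.span_singleton_le_iff_mem _ _).2 hd' hmem)
    rw [← span_eq hR.1 hx'R (key d' hd' hxd') hli', ← span_eq hR'.1 hxR' hdR' hli']
  rintro R ⟨hR, x, hxR, hxD, d, hd, hd0, hdR, hy⟩
  set u := φ 2 x • g + φ 3 x • h with hu
  have hu0 : u ≠ 0 := fun e => hxD (Submodule.mem_span_pair.2 ⟨φ 0 x, φ 1 x, by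
    conv_rhs => rw [hφ x, add_assoc, ← hu, e, add_zero]⟩)
  refine Set.mem_iUnion₂.2 ⟨Submodule.span K {u}, ⟨finrank_span_singleton hu0,
    (Submodule.span_singleton_le_iff_mem _ _).2 (Submodule.mem_span_pair.2 ⟨_, _, rfl⟩), fun v hv => ?_⟩,
    hR, x, hxR, hxD, Submodule.mem_span_singleton_self u, d, hd, hd0, hdR⟩
  obtain ⟨c, rfl⟩ := Submodule.mem_span_singleton.1 hv
  have hud : ∀ y, T F u d y = 0 := fun y => by
    have := hy y
    rw [hφ x, add_assoc, ← hu, add1] at this
    rwa [double_zero hD (Submodule.mem_span_pair.2 ⟨_, _, rfl⟩) hd, zero_add] at this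
  obtain ⟨a, b, rfl⟩ := Submodule.mem_span_pair.1 hd
  have d1 := hud g
  have d2 := hud h
  simp only [add2, smul2] at d1 d2
  show J (c • u) = 0
  have hJu : J u = 0 := by
    have hab : ¬ (a = 0 ∧ b = 0) := fun e => hd0 (by simp [e.1, e.2])
    rcases not_and_or.1 hab with ha | hb
    · refine mul_left_cancel₀ ha (?_ : a * J u = a * 0)
      simp only [J]
      linear_combination T F u q h * d1 - T F u q g * d2
    · refine mul_left_cancel₀ hb (?_ : b * J u = b * 0)
      simp only [J]
      linear_combination T F u p g * d2 - T F u p h * d1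
  simp only [J, smul1] at hJu ⊢
  linear_combination c ^ 2 * hJu

include hF in
theorem finite_special :
    ∃ 𝓛 : Set (Submodule K V), 𝓛.Finite ∧ (∀ U ∈ 𝓛, IsLn F U) ∧
      ∀ b, TP F b → ∃ U ∈ 𝓛, b ∈ U := by
  refine ⟨_, (finite_skew hF hpq hD).finite.union (finite_torsal hF hpq hD), ?_, fun b hb => ?_⟩
  · rintro U (h | h) <;> exact h.1
  obtain ⟨U₁, U₂, hU₁, hU₂, hb₁, hb₂, ht₁, ht₂, hdbl⟩ := tp_lines hF hb
  by_cases h1 : U₁ ⊓ Submodule.span K {p, q} = ⊥
  · exact ⟨U₁, Or.inl ⟨hU₁, h1⟩, hb₁⟩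
  by_cases h2 : U₂ ⊓ Submodule.span K {p, q} = ⊥
  · exact ⟨U₂, Or.inl ⟨hU₂, h2⟩, hb₂⟩
  obtain ⟨d₁, ⟨hd₁U, hd₁⟩, hd₁0⟩ := Submodule.exists_mem_ne_zero_of_ne_bot h1
  obtain ⟨d₂, ⟨hd₂U, hd₂⟩, hd₂0⟩ := Submodule.exists_mem_ne_zero_of_ne_bot h2
  have hbD : b ∉ Submodule.span K {p, q} := fun h => by
    obtain ⟨y, hy⟩ := hb.2.2.1
    exact hy (hD b h y)
  have hne := not_both hF hpq hD hbD hb.2.1
  obtain ⟨c, hc⟩ := kernel_prop (φ := lin F b b) hd₁ hd₂ hne hd₁0 (ht₁ _ hd₁U) (ht₂ _ hd₂U)
  have hc0 : c ≠ 0 := fun e => hd₂0 (by rw [hc, e, zero_smul])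
  have hli : LinearIndependent K ![b, d₁] := li_pair hd₁0 fun hmem =>
    hbD ((Submodule.span_singleton_le_iff_mem _ _).2 hd₁ hmem)
  have heq : U₁ = U₂ := by
    rw [← span_eq hU₁.1 hb₁ hd₁U hli]
    refine span_eq hU₂.1 hb₂ ?_ hli
    have := U₂.smul_mem c⁻¹ hd₂U
    rwa [hc, smul_smul, inv_mul_cancel₀ hc0, one_smul] at this
  refine ⟨U₁, Or.inr ⟨hU₁, b, hb₁, hbD, d₁, hd₁, hd₁0, hd₁U, fun y => ?_⟩, hb₁⟩
  have hY : ∀ y, T F b b y = 0 → T F b d₁ y = 0 := fun y hy => by
    have h := hdbl heq (b + d₁) (U₁.add_mem hb₁ hd₁U) y hy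
    rw [expand_add, hy, hD d₁ hd₁] at h
    linear_combination (1/2 : K) * h
  have hd : ∀ e ∈ Submodule.span K {p, q}, T F b d₁ e = 0 := fun e he => by
    rw [s12, s23, double_zero hD hd₁ he]
  obtain ⟨e, he, hbe⟩ : ∃ e ∈ Submodule.span K {p, q}, T F b b e ≠ 0 := by
    rcases hne with h | h
    · exact ⟨p, Submodule.subset_span (by simp), h⟩
    · exact ⟨q, Submodule.subset_span (by simp), h⟩
  have h := hY (y + (-(T F b b y / T F b b e)) • e) (by
    rw [add3, smul3]; field_simp; ring)
  rw [add3, smul3, hd e he] at h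
  simpa using h

end Double

end Groth.Agent.Lib.LefPen45.TPoints
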