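import Groth.Agent.Lib.LefPen45.TP.Basic

/-!
# T-points of a cubic surface: a line in the tangent plane
-/

set_option autoImplicit false

universe u

open MvPolynomial

namespace Groth.Agent.Lib.LefPen45.TPoints

open Trilinear

variable {K : Type u} [Field K]

local notation "V" => (Fin 4 → K)

variable [IsAlgClosed K] [CharZero K] {F : MvPolynomial (Fin 4) K}

section OnLine

open Polynomial in
/-- The residual conic of a line `⟨g, h⟩` in the plane through `e`. -/
noncomputable def conicM (F : MvPolynomial (Fin 4) K) (g h e : V) : Matrix (Fin 3) (Fin 3) K :=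
  !![2 * T F g g e, 2 * T F g h e, T F g e e;
     2 * T F g h e, 2 * T F h h e, T F h e e;
     T F g e e, T F h e e, (2 / 3) * T F e e e]

/-- Its quadratic form. -/
noncomputable def conicQ (F : MvPolynomial (Fin 4) K) (g h e : V) (x y s : K) : K :=
  (3 / 2) * (2 * T F g g e * x ^ 2 + 4 * T F g h e * x * y + 2 * T F h h e * y ^ 2 +
    2 * T F g e e * x * s + 2 * T F h e e * y * s + (2 / 3) * T F e e e * s ^ 2)

theorem conic_eq {U : Submodule K V} (hU : ∀ u ∈ U, T F u u u = 0) {g h : V} (hg : g ∈ U) (hh : h ∈ U)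
    (e : V) (x y s : K) :
    T F (x • g + y • h + s • e) (x • g + y • h + s • e) (x • g + y • h + s • e) =
      s * conicQ F g h e x y s := by
  have hu : x • g + y • h ∈ U := U.add_mem (U.smul_mem _ hg) (U.smul_mem _ hh)
  rw [expand_cube, hU _ hu]
  simp only [add1, add2, add3, smul1, smul2, smul3, conicQ, s12 h g, s13 e e g, s13 e e h]
  ring

theorem det_eq_zero_of_split {U : Submodule K V} (hU : IsLn F U) {g h : V} (hg : g ∈ U) (hh : h ∈ U)
    (e : V) (L : Fin 3 → (V →ₗ[K] K))
    (hL : ∀ x y s : K, T F (x • g + y • h + s • e) (x • g + y • h + s • e) (x • g + y • h + s • e) =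
      L 0 (x • g + y • h + s • e) * L 1 (x • g + y • h + s • e) * L 2 (x • g + y • h + s • e)) :
    (conicM F g h e).det = 0 := by
  obtain ⟨i, hig, hih⟩ : ∃ i, L i g = 0 ∧ L i h = 0 := by
    let P : Fin 3 → Polynomial K := fun i => Polynomial.C (L i g) * Polynomial.X + Polynomial.C (L i h)
    have hP : P 0 * P 1 * P 2 = 0 := Polynomial.funext fun r => by
      have := hL r 1 0
      rw [conic_eq hU.2 hg hh, zero_mul] at this
      simp at this
      simp [P, mul_comm (L _ g) r, this]
    rw [mul_eq_zero, mul_eq_zero] at hP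
    have key : ∀ i, P i = 0 → L i g = 0 ∧ L i h = 0 := fun i hi =>
      ⟨by simpa [P] using congrArg (fun f => Polynomial.coeff f 1) hi,
        by simpa [P] using congrArg (fun f => Polynomial.coeff f 0) hi⟩
    rcases hP with (h0 | h0) | h0
    exacts [⟨0, key 0 h0⟩, ⟨1, key 1 h0⟩, ⟨2, key 2 h0⟩]
  obtain ⟨L₂, L₃, hprod⟩ : ∃ L₂ L₃ : V →ₗ[K] K, ∀ v, L 0 v * L 1 v * L 2 v = L i v * L₂ v * L₃ v := by
    fin_cases i
    · exact ⟨L 1, L 2, fun v => rfl⟩
    · exact ⟨L 0, L 2, fun v => show _ = L 1 v * L 0 v * L 2 v by ring⟩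
    · exact ⟨L 0, L 1, fun v => show _ = L 2 v * L 0 v * L 1 v by ring⟩
  let v : (Fin 3 → K) →ₗ[K] V :=
    (LinearMap.proj 0).smulRight g + (LinearMap.proj 1).smulRight h + (LinearMap.proj 2).smulRight e
  have hv : ∀ z, v z = z 0 • g + z 1 • h + z 2 • e := fun z => rfl
  let D : (Fin 3 → K) → K := fun z =>
    conicQ F g h e (z 0) (z 1) (z 2) - L i e * L₂ (v z) * L₃ (v z)
  have hD1 : ∀ z, z 2 ≠ 0 → D z = 0 := fun z hz => by
    have := hL (z 0) (z 1) (z 2)
    rw [conic_eq hU.2 hg hh, hprod] at this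
    refine mul_left_cancel₀ hz (?_ : z 2 * D z = z 2 * 0)
    simp only [D, hv]
    simp only [map_add, map_smul, smul_eq_mul, hig, hih] at this ⊢
    linear_combination this
  have hD : ∀ z, D z = 0 := fun z => by
    by_cases hz : z 2 ≠ 0
    · exact hD1 z hz
    push Not at hz
    have a := hD1 ![z 0, z 1, 1] (by simp)
    have b := hD1 ![z 0, z 1, 2] (by simp)
    have c := hD1 ![z 0, z 1, 3] (by simp)
    simp only [D, hv, conicQ, Matrix.cons_val_zero, Matrix.cons_val_one, Matrix.cons_val,
      map_add, map_smul, smul_eq_mul] at a b c ⊢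
    rw [hz]
    linear_combination 3 * a - 3 * b + c
  let M₂ : (Fin 3 → K) →ₗ[K] (Fin 2 → K) := LinearMap.pi ![L₂.comp v, L₃.comp v]
  obtain ⟨w, hw, hw0⟩ := Submodule.exists_mem_ne_zero_of_ne_bot
    (show LinearMap.ker M₂ ≠ ⊥ from LinearMap.ker_ne_bot_of_finrank_lt (by simp))
  have hw2 : L₂ (v w) = 0 := by simpa [M₂] using congrFun hw 0
  have hw3 : L₃ (v w) = 0 := by simpa [M₂] using congrFun hw 1
  have hk : ∀ z, D (z + w) - D z - D w = 0 := fun z => by simp [hD]
  simp only [D, map_add, hw2, hw3, conicQ, Pi.add_apply] at hk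
  refine Matrix.exists_mulVec_eq_zero_iff.1 ⟨w, hw0, funext fun j => ?_⟩
  have h0 := hk (Pi.single 0 1)
  have h1 := hk (Pi.single 1 1)
  have h2 := hk (Pi.single 2 1)
  simp at h0 h1 h2
  fin_cases j <;> simp [Matrix.mulVec, dotProduct, Fin.sum_univ_three, conicM]
  · linear_combination (1/3 : K) * h0
  · linear_combination (1/3 : K) * h1
  · linear_combination (1/3 : K) * h2

theorem split_of_det {U : Submodule K V} (hU : IsLn F U) {g h : V} (hg : g ∈ U) (hh : h ∈ U)
    (e : V) (hdet : (conicM F g h e).det = 0) :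
    ∃ M : Fin 3 → ((Fin 3 → K) →ₗ[K] K), ∀ x y s : K,
      T F (x • g + y • h + s • e) (x • g + y • h + s • e) (x • g + y • h + s • e) =
        M 0 ![x, y, s] * M 1 ![x, y, s] * M 2 ![x, y, s] := by
  obtain ⟨w, hw0, hw⟩ := Matrix.exists_mulVec_eq_zero_iff.2 hdet
  obtain ⟨i, hi⟩ := Function.ne_iff.1 hw0
  simp at hi
  let π : Fin 3 → ((Fin 3 → K) →ₗ[K] K) := fun j =>
    LinearMap.proj j - (w j / w i) • LinearMap.proj i
  let Q : (Fin 3 → K) → K := fun z => conicQ F g h e (z 0) (z 1) (z 2)
  have hQ : ∀ z (t : K), Q (fun j => z j - t * w j) = Q z := fun z t => by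
    have k0 := congrFun hw 0
    have k1 := congrFun hw 1
    have k2 := congrFun hw 2
    simp [Matrix.mulVec, dotProduct, Fin.sum_univ_three, conicM] at k0 k1 k2
    simp only [Q, conicQ]
    linear_combination (-(3 : K) * t * z 0 + (3/2 : K) * t ^ 2 * w 0) * k0 +
      (-(3 : K) * t * z 1 + (3/2 : K) * t ^ 2 * w 1) * k1 +
      (-(3 : K) * t * z 2 + (3/2 : K) * t ^ 2 * w 2) * k2
  obtain ⟨j, l, A, B, C', hred⟩ : ∃ (j l : Fin 3) (A B C' : K), ∀ z : Fin 3 → K, z i = 0 →
      Q z = A * z j ^ 2 + B * z j * z l + C' * z l ^ 2 := by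
    fin_cases i
    · exact ⟨1, 2, 3 * T F h h e, 3 * T F h e e, T F e e e, fun z hz => by
        simp at hz; simp only [Q, conicQ, hz]
        ring⟩
    · exact ⟨0, 2, 3 * T F g g e, 3 * T F g e e, T F e e e, fun z hz => by
        simp at hz; simp only [Q, conicQ, hz]
        ring⟩
    · exact ⟨0, 1, 3 * T F g g e, 6 * T F g h e, 3 * T F h h e, fun z hz => by
        simp at hz; simp only [Q, conicQ, hz]
        ring⟩
  obtain ⟨a, b, c, d, hfac⟩ := factor_binary A B C'
  refine ⟨![LinearMap.proj 2, a • π j + b • π l, c • π j + d • π l], fun x y s => ?_⟩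
  rw [conic_eq hU.2 hg hh]
  set z : Fin 3 → K := ![x, y, s] with hz
  have hzQ : conicQ F g h e x y s = Q z := by simp [Q, hz]
  rw [hzQ, ← hQ z (z i / w i), hred (fun j' => z j' - z i / w i * w j') (by field_simp; ring), hfac]
  simp only [Matrix.cons_val_zero, Matrix.cons_val_one, Matrix.cons_val, LinearMap.add_apply,
    LinearMap.smul_apply, LinearMap.sub_apply, LinearMap.proj_apply, smul_eq_mul, π]
  simp only [hz, Matrix.cons_val]
  ring

/-- The determinant of the conics in a pencil of planes is a polynomial. -/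
theorem det_poly (g h e f : V) :
    ∃ P : Polynomial K, ∀ r, P.eval r = (conicM F g h (e + r • f)).det := by
  let gg : Polynomial K := .C (T F g g e) + .C (T F g g f) * .X
  let gh : Polynomial K := .C (T F g h e) + .C (T F g h f) * .X
  let hh : Polynomial K := .C (T F h h e) + .C (T F h h f) * .X
  let ge : Polynomial K := .C (T F g e e) + .C (2 * T F g e f) * .X + .C (T F g f f) * .X ^ 2
  let he : Polynomial K := .C (T F h e e) + .C (2 * T F h e f) * .X + .C (T F h f f) * .X ^ 2
  let ee : Polynomial K := .C (T F e e e) + .C (3 * T F e e f) * .X + .C (3 * T F f f e) * .X ^ 2 +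
    .C (T F f f f) * .X ^ 3
  let M : Matrix (Fin 3) (Fin 3) (Polynomial K) :=
    !![2 * gg, 2 * gh, ge; 2 * gh, 2 * hh, he; ge, he, .C (2 / 3) * ee]
  refine ⟨M.det, fun r => ?_⟩
  rw [← Polynomial.coe_evalRingHom, RingHom.map_det]
  congr 1
  ext i j
  simp only [conicM, expand_cube]
  fin_cases i <;> fin_cases j <;>
    simp [M, gg, gh, hh, ge, he, ee, add2, add3, smul2, smul3, smul1] <;>
    (try simp [s23 g f e, s23 h f e]) <;> ring

/-- Finitely many T-points lie on a line of the tangent plane. -/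
theorem finite_on_line (hF : Good F) {a : V} (ha : ¬ TP F a) (ha0 : a ≠ 0) (hFa : T F a a a = 0)
    (hsm : ∃ y, T F a a y ≠ 0) {U : Submodule K V} (hU : IsLn F U)
    (hUH : ∀ u ∈ U, T F a a u = 0) :
    {W : Submodule K V | Module.finrank K W = 1 ∧ W ≤ U ∧ ∀ b ∈ W, b ≠ 0 → TP F b}.Finite := by
  classical
  obtain ⟨g, h, hg, hh, hgh⟩ := exists_pair hU.1
  obtain ⟨f, hf⟩ := hsm
  obtain ⟨e, heH, heU⟩ : ∃ e ∈ LinearMap.ker (lin F a a), e ∉ U := by
    by_contra hc
    push Not at hc
    have h1 := Submodule.finrank_mono (show LinearMap.ker (lin F a a) ≤ U from hc)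
    have h2 := Module.Dual.finrank_ker_add_one_of_ne_zero (f := lin F a a)
      (fun h0 => hf (by simpa using congrArg (fun ψ => ψ f) h0))
    simp [hU.1] at h1 h2
    omega
  have he : T F a a e = 0 := by simpa using heH
  have hli : LinearIndependent K ![g, h, e, f] := by
    refine li_four hgh (LinearIndependent.pair_iff.2 fun s t hst => ?_) fun x y c d hxy => ?_
    · have := congrArg (lin F a a) hst
      simp only [lin_apply, add3, smul3, he, zero3, mul_zero, zero_add] at this
      have ht : t = 0 := (mul_eq_zero.1 this).resolve_right hf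
      subst ht
      refine ⟨?_, rfl⟩
      simp at hst
      exact hst.resolve_right fun e0 => heU (e0 ▸ U.zero_mem)
    · have hu : x • g + y • h ∈ U := U.add_mem (U.smul_mem _ hg) (U.smul_mem _ hh)
      have := congrArg (lin F a a) hxy
      simp only [lin_apply, add3, smul3, he, hUH g hg, hUH h hh, mul_zero, zero_add] at this
      have hd : d = 0 := (mul_eq_zero.1 this.symm).resolve_right hf
      subst hd
      by_contra hne
      refine heU ?_
      rw [zero_smul, add_zero] at hxy
      have hc : c ≠ 0 := fun e0 => hne (by rw [hxy, e0, zero_smul])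
      have := U.smul_mem c⁻¹ (hxy ▸ hu)
      rwa [smul_smul, inv_mul_cancel₀ hc, one_smul] at this
  obtain ⟨φ, hφ, hφd⟩ := exists_coord hli
  have hker : ∀ x, T F a a x = 0 → x = φ 0 x • g + φ 1 x • h + φ 2 x • e := fun x hx => by
    have h3 : φ 3 x = 0 := by
      have := hx
      rw [hφ x] at this
      simpa [add3, smul3, he, hUH g hg, hUH h hh, hf] using this
    conv_lhs => rw [hφ x, h3, zero_smul, add_zero]
  have hsplit : ¬ ∃ L : Fin 3 → (V →ₗ[K] K), ∀ x, T F a a x = 0 → T F x x x = L 0 x * L 1 x * L 2 x :=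
    fun hL => ha ⟨ha0, hFa, ⟨f, hf⟩, hL⟩
  let c3 : V →ₗ[K] (Fin 3 → K) := LinearMap.pi ![φ 0, φ 1, φ 2]
  have hdet : (conicM F g h e).det ≠ 0 := fun h0 => hsplit (by
    obtain ⟨M, hM⟩ := split_of_det hU hg hh e h0
    refine ⟨fun i => (M i).comp c3, fun x hx => ?_⟩
    have hc : c3 x = ![φ 0 x, φ 1 x, φ 2 x] := by
      funext i; fin_cases i <;> simp [c3]
    conv_lhs => rw [hker x hx]
    rw [hM]
    simp [hc])
  have haU : a ∈ U := by
    by_contra haU
    refine hdet (Matrix.exists_mulVec_eq_zero_iff.1 ⟨![φ 0 a, φ 1 a, φ 2 a], ?_, ?_⟩)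
    · intro h0
      have a0 := congrFun h0 0
      have a1 := congrFun h0 1
      have a2 := congrFun h0 2
      simp at a0 a1 a2
      refine ha0 ?_
      rw [hker a hFa, a0, a1, a2]; simp
    · have hs : φ 2 a ≠ 0 := fun h2 => haU (by
        rw [hker a hFa, h2, zero_smul, add_zero]
        exact U.add_mem (U.smul_mem _ hg) (U.smul_mem _ hh))
      have ea := hker a hFa
      set x := φ 0 a
      set y := φ 1 a
      set s := φ 2 a
      have k0 := hUH g hg
      have k1 := hUH h hh
      have k2 := he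
      have hQ : conicQ F g h e x y s = 0 := by
        have := conic_eq hU.2 hg hh e x y s
        rw [← ea, hFa] at this
        exact (mul_eq_zero.1 this.symm).resolve_left hs
      rw [ea] at k0 k1 k2
      have g0 : T F g g g = 0 := hU.2 g hg
      have h0 : T F h h h = 0 := hU.2 h hh
      have ggh : T F g g h = 0 := line_tangent hU.2 hg hh
      have hhg : T F h h g = 0 := line_tangent hU.2 hh hg
      have c1 : T F g h g = T F g g h := s23 _ _ _
      have c2 : T F h g g = T F g g h := s13 _ _ _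
      have c3 : T F h g h = T F h h g := s23 _ _ _
      have c4 : T F g h h = T F h h g := s13 _ _ _
      have c5 : T F g e g = T F g g e := s23 _ _ _
      have c6 : T F e g g = T F g g e := s13 _ _ _
      have c7 : T F h e h = T F h h e := s23 _ _ _
      have c8 : T F e h h = T F h h e := s13 _ _ _
      have c9 : T F g e h = T F g h e := s23 _ _ _
      have c10 : T F h g e = T F g h e := s12 _ _ _
      have c11 : T F h e g = T F g h e := by rw [s23, s12]
      have c12 : T F e g h = T F g h e := by rw [s12, s23]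
      have c13 : T F e h g = T F g h e := s13 _ _ _
      have c14 : T F e g e = T F g e e := s12 _ _ _
      have c15 : T F e e g = T F g e e := s13 _ _ _
      have c16 : T F e h e = T F h e e := s12 _ _ _
      have c17 : T F e e h = T F h e e := s13 _ _ _
      simp only [add1, add2, smul1, smul2, g0, h0, ggh, hhg, c1, c2, c3, c4, c5, c6, c7, c8, c9, c10,
        c11, c12, c13, c14, c15, c16, c17] at k0 k1 k2
      simp only [conicQ] at hQ
      funext j
      fin_cases j <;> simp [Matrix.mulVec, dotProduct, Fin.sum_univ_three, conicM]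
      · refine mul_left_cancel₀ hs ?_
        linear_combination k0
      · refine mul_left_cancel₀ hs ?_
        linear_combination k1
      · refine mul_left_cancel₀ hs ?_
        linear_combination k2 - (1/3 : K) * hQ
  obtain ⟨P, hP⟩ := det_poly (F := F) g h e f
  have hP0 : P ≠ 0 := fun h0 => hdet (by
    have := hP 0
    simpa [h0] using this.symm)
  let e' : Option {r // P.IsRoot r} → V := fun o => o.elim f fun r => e + r.1 • f
  have hfinR : Finite {r // P.IsRoot r} := (Polynomial.finite_setOfPred_isRoot hP0).to_subtype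
  have hne : ∀ o, T F a a (e' o) ≠ 0 ∨ (∃ r, o = some r ∧ r.1 = 0) := fun o => by
    rcases o with _ | r
    · exact Or.inl hf
    · by_cases hr : r.1 = 0
      · exact Or.inr ⟨r, rfl, hr⟩
      · exact Or.inl (by simp [e', add3, smul3, he, hr, hf])
  refine ((Set.finite_range fun o => o).biUnion fun o _ => show
    {W : Submodule K V | Module.finrank K W = 1 ∧ W ≤ U ∧
      ∀ x ∈ W, T F x x (e' o) = 0}.Finite from ?_).subset ?_
  · refine dirs hU.1 (fun x => T F x x (e' o)) (fun t x hx => by simp [smul1, smul2, hx])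
      (fun g h => ⟨Polynomial.C (T F g g (e' o)) + Polynomial.C (2 * T F g h (e' o)) * Polynomial.X +
        Polynomial.C (T F h h (e' o)) * Polynomial.X ^ 2, fun r => by
          simp only [expand_add, smul1, smul2, Polynomial.eval_add, Polynomial.eval_mul,
            Polynomial.eval_C, Polynomial.eval_X, Polynomial.eval_pow]
          ring⟩) ⟨a, haU, ?_⟩
    rcases hne o with h' | ⟨r, -, hr⟩
    · exact h'
    · exact absurd (by have := r.2.eq_zero; rwa [hP, hr, zero_smul, add_zero] at this) hdet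
  rintro W ⟨hW1, hWU, hW⟩
  obtain ⟨b, hbW, hb0⟩ := Submodule.exists_mem_ne_zero_of_ne_bot (fun e : W = ⊥ => by rw [e, finrank_bot] at hW1; exact zero_ne_one hW1)
  obtain ⟨-, hFb, ⟨y, hy⟩, L, hL⟩ := hW b hbW hb0
  have hbg : T F b b g = 0 := line_tangent hU.2 (hWU hbW) hg
  have hbh : T F b b h = 0 := line_tangent hU.2 (hWU hbW) hh
  have hspanW : ∀ x ∈ W, ∃ c : K, x = c • b := fun x hx => by
    have hWb : W = Submodule.span K {b} :=
      (Submodule.eq_of_le_of_finrank_le ((Submodule.span_singleton_le_iff_mem _ _).2 hbW)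
        (by rw [hW1, finrank_span_singleton hb0])).symm
    obtain ⟨c, hc⟩ := Submodule.mem_span_singleton.1 (hWb ▸ hx)
    exact ⟨c, hc.symm⟩
  obtain ⟨o, ho⟩ : ∃ o, T F b b (e' o) = 0 := by
    by_cases hbf : T F b b f = 0
    · exact ⟨none, hbf⟩
    set r := -(T F b b e) / T F b b f
    have hbr : T F b b (e + r • f) = 0 := by
      simp only [add3, smul3, r]; field_simp; ring
    refine ⟨some ⟨r, ?_⟩, hbr⟩
    rw [Polynomial.IsRoot, hP]
    exact det_eq_zero_of_split hU hg hh _ L fun x y s => hL _ (by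
      simp only [add3, smul3] at hbr
      simp only [add3, smul3, hbg, hbh, hbr]; ring)
  refine Set.mem_iUnion₂.2 ⟨o, ⟨o, rfl⟩, hW1, hWU, fun x hx => ?_⟩
  obtain ⟨c, rfl⟩ := hspanW x hx
  simp [smul1, smul2, ho]

end OnLine

end Groth.Agent.Lib.LefPen45.TPoints
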