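import Groth.Agent.Lib.LefPen45.TP.Basic

/-!
# T-points of a cubic surface: lines through singular points
-/

set_option autoImplicit false

universe u

open MvPolynomial

namespace Groth.Agent.Lib.LefPen45.TPoints

open Trilinear

variable {K : Type u} [Field K]

local notation "V" => (Fin 4 → K)

variable [IsAlgClosed K] [CharZero K] {F : MvPolynomial (Fin 4) K}

/-- Finitely many lines of the surface pass through a singular point. -/
theorem finite_lines_through (hF : Good F) {p : V} (hp0 : p ≠ 0) (hp : Sg F p) :
    {U : Submodule K V | IsLn F U ∧ p ∈ U}.Finite := by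
  classical
  have hp2 : ∀ y, T F p y p = 0 := fun y => by rw [s23]; exact hp y
  have hshift : ∀ (z : V) (σ : K), T F (σ • p + z) (σ • p + z) p = T F z z p := fun z σ => by
    rw [expand_add]; simp only [smul1, smul2, hp2]; ring
  have hcube : ∀ (z : V) (σ : K),
      T F (σ • p + z) (σ • p + z) (σ • p + z) = T F z z z + 3 * σ * T F z z p := fun z σ => by
    rw [expand_cube]; simp only [smul1, smul2, smul3, hp z, hp p]; ring
  by_cases hdeg : ∃ w, LinearIndependent K ![w, p] ∧ ∀ y, T F w y p = 0
  · obtain ⟨w, hwp, hw⟩ := hdeg
    obtain ⟨g, hg⟩ := exists_snoc hwp (by norm_num)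
    obtain ⟨h, hh⟩ := exists_snoc hg (by norm_num)
    have hli : LinearIndependent K ![w, p, g, h] := by
      convert hh using 1
      funext i; fin_cases i <;> simp [Fin.snoc]
    obtain ⟨φ, hφ, hφd⟩ := exists_coord hli
    obtain ⟨a, b, c, e, habce⟩ := factor_binary (T F g g p) (2 * T F g h p) (T F h h p)
    have hQ : ∀ x, T F x x p = (a * φ 2 x + b * φ 3 x) * (c * φ 2 x + e * φ 3 x) := fun x => by
      rw [← habce]
      conv_lhs => rw [hφ x]
      simp only [add1, add2, smul1, smul2, hw, hp2, s12 g w, s12 h w, s12 g p, s12 h p, s12 h g]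
      ring
    have key : ∀ a b : K, (∀ x, a * φ 2 x + b * φ 3 x = 0 → T F x x p = 0) →
        {U : Submodule K V | IsLn F U ∧ p ∈ U ∧ ∀ x ∈ U, a * φ 2 x + b * φ 3 x = 0}.Finite := by
      intro a b hab
      by_cases hne : a = 0 ∧ b = 0
      · obtain ⟨x, hx⟩ := hF.cone p hp0
        exact absurd (hab x (by simp [hne.1, hne.2])) hx
      let r : V := b • g - a • h
      let R : Submodule K V := Submodule.span K {w, r}
      have hr : ∀ i, φ i r = b * (if (2 : Fin 4) = i then 1 else 0) - a * (if (3 : Fin 4) = i then 1 else 0) :=
        fun i => by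
          have e2 := hφd i 2
          have e3 := hφd i 3
          simp at e2 e3
          simp [r, e2, e3]
      have hφw : ∀ i, φ i w = if (0 : Fin 4) = i then 1 else 0 := fun i => by simpa using hφd i 0
      have hφp : ∀ i, φ i p = if (1 : Fin 4) = i then 1 else 0 := fun i => by simpa using hφd i 1
      have hliR : LinearIndependent K ![w, r] := by
        rw [LinearIndependent.pair_iff]
        intro s t hst
        have h0 := congrArg (φ 0) hst
        have h2 := congrArg (φ 2) hst
        have h3 := congrArg (φ 3) hst
        simp [hr, hφw] at h0 h2 h3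
        refine ⟨h0, ?_⟩
        rcases not_and_or.1 hne with h | h
        · exact h3.resolve_right h
        · exact h2.resolve_right h
      have hR : Module.finrank K R = 2 := by
        rw [show R = Submodule.span K (Set.range ![w, r]) by rw [Matrix.range_cons_cons_empty],
          finrank_span_eq_card hliR]
        simp
      have hmemR : ∀ x, a * φ 2 x + b * φ 3 x = 0 → x - φ 1 x • p ∈ R := fun x hx => by
        refine Submodule.mem_span_pair.2 ⟨φ 0 x, if b = 0 then -(φ 3 x / a) else φ 2 x / b, ?_⟩
        conv_rhs => lhs; rw [hφ x]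
        split_ifs with hb
        · have ha : a ≠ 0 := fun h => hne ⟨h, hb⟩
          have h2 : φ 2 x = 0 := by simpa [hb, ha] using hx
          simp only [r, hb, h2, zero_smul, zero_sub, smul_neg, neg_smul, neg_neg, smul_smul,
            div_mul_cancel₀ _ ha]
          match_scalars <;> field_simp <;> ring
        · have h3 : φ 3 x = -(φ 2 x / b * a) := by
            field_simp; linear_combination hx
          simp only [r, h3, smul_sub, smul_smul, div_mul_cancel₀ _ hb, neg_smul]
          module
      have hfin := dirs hR (fun x => T F x x x) (fun t x hx => by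
        show T F (t • x) (t • x) (t • x) = 0
        change T F x x x = 0 at hx
        rw [smul1, smul2, smul3, hx]; ring)
        (fun g' h' => by
          obtain ⟨P, hP⟩ := poly_path hF fun i => Polynomial.C (g' i) + Polynomial.C (h' i) * Polynomial.X
          refine ⟨P, fun r => ?_⟩
          rw [hP]
          have : (fun i => (Polynomial.C (g' i) + Polynomial.C (h' i) * Polynomial.X).eval r) =
              g' + r • h' := by
            funext i
            simp only [Polynomial.eval_add, Polynomial.eval_mul, Polynomial.eval_C, Polynomial.eval_X,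
              Pi.add_apply, Pi.smul_apply, smul_eq_mul]
            ring
          rw [this])
        (by
          by_contra hcon
          push Not at hcon
          obtain ⟨x, hx, hx3⟩ := no_hyperplane hF (φ := a • φ 2 + b • φ 3) fun h0 => hne (by
            have e2 := congrArg (fun f => f g) h0
            have e3 := congrArg (fun f => f h) h0
            have d22 := hφd 2 2; have d32 := hφd 3 2; have d23 := hφd 2 3; have d33 := hφd 3 3
            simp at d22 d32 d23 d33
            simp [d22, d32, d23, d33] at e2 e3
            exact ⟨e2, e3⟩)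
          simp only [LinearMap.add_apply, LinearMap.smul_apply, smul_eq_mul] at hx
          refine hx3 ?_
          rw [← add_sub_cancel (φ 1 x • p) x, hcube, hcon _ (hmemR x hx)]
          have := hab x hx
          rw [← add_sub_cancel (φ 1 x • p) x, hshift] at this
          rw [this]; ring)
      refine (hfin.image fun W => W ⊔ Submodule.span K {p}).subset ?_
      rintro U ⟨⟨hU2, hU⟩, hpU, hUab⟩
      obtain ⟨x, hxU, hxp⟩ : ∃ x ∈ U, x ∉ Submodule.span K {p} := by
        by_contra hc
        push Not at hc
        have h1 := Submodule.finrank_mono (show U ≤ Submodule.span K {p} from hc)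
        rw [hU2, finrank_span_singleton hp0] at h1
        omega
      set x' := x - φ 1 x • p with hx'
      have hx'U : x' ∈ U := U.sub_mem hxU (U.smul_mem _ hpU)
      have hx'0 : x' ∉ Submodule.span K {p} := fun h => hxp (by
        simpa [hx'] using Submodule.add_mem _ h (Submodule.smul_mem _ (φ 1 x) (Submodule.mem_span_singleton_self p)))
      refine ⟨Submodule.span K {x'}, ⟨finrank_span_singleton fun e => hx'0 (e ▸ Submodule.zero_mem _),
        (Submodule.span_singleton_le_iff_mem _ _).2 (hmemR x (hUab x hxU)), fun y hy => ?_⟩, ?_⟩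
      · exact hU y ((Submodule.span_singleton_le_iff_mem _ _).2 hx'U hy)
      · show Submodule.span K {x'} ⊔ Submodule.span K {p} = U
        rw [← Submodule.span_union, Set.singleton_union]
        exact span_eq hU2 hx'U hpU (li_pair hp0 hx'0)
    by_cases hab : ∀ x, a * φ 2 x + b * φ 3 x = 0
    · obtain ⟨x, hx⟩ := hF.cone p hp0
      exact absurd (by rw [hQ, hab, zero_mul]) hx
    refine ((key a b fun x hx => by rw [hQ, hx, zero_mul]).union
      (key c e fun x hx => by rw [hQ, hx, mul_zero])).subset ?_
    rintro U ⟨hU, hpU⟩
    have hUQ : ∀ x ∈ U, (a * φ 2 x + b * φ 3 x) * (c * φ 2 x + e * φ 3 x) = 0 := fun x hx => by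
      rw [← hQ]; exact line_tangent hU.2 hx hpU
    by_contra hcon
    simp only [Set.mem_union, Set.mem_setOf_eq, not_or, not_and, not_forall] at hcon
    obtain ⟨x, hx, hx1⟩ := hcon.1 hU hpU
    obtain ⟨y, hy, hy2⟩ := hcon.2 hU hpU
    have hx2 := (mul_eq_zero.1 (hUQ x hx)).resolve_left hx1
    have hy1 := (mul_eq_zero.1 (hUQ y hy)).resolve_right hy2
    have hxy := hUQ _ (U.add_mem hx hy)
    simp only [map_add] at hxy
    have : (a * φ 2 x + b * φ 3 x) * (c * φ 2 y + e * φ 3 y) = 0 := by
      linear_combination hxy - (a * φ 2 x + b * φ 3 x + (a * φ 2 y + b * φ 3 y)) * hx2 -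
        (c * φ 2 y + e * φ 3 y) * hy1
    exact (mul_eq_zero.1 this).elim hx1 hy2
  · push Not at hdeg
    obtain ⟨g, hg⟩ := exists_snoc (K := K) (v := ![p])
      (linearIndependent_unique_iff.2 (by simpa using hp0)) (by norm_num)
    obtain ⟨h, hh⟩ := exists_snoc hg (by norm_num)
    have hli3 : LinearIndependent K ![p, g, h] := by
      convert hh using 1
      funext i; fin_cases i <;> simp [Fin.snoc]
    have hgh : LinearIndependent K ![g, h] := by
      convert hli3.comp Fin.succ (Fin.succ_injective _) using 1
      funext i; fin_cases i <;> rfl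
    obtain ⟨o, ho0, hospan, ho⟩ := exists_isotropic (F := F) p hgh
    have hop : LinearIndependent K ![o, p] := li_pair hp0 fun hc => by
      obtain ⟨c, hc⟩ := Submodule.mem_span_singleton.1 hc
      obtain ⟨s, t, hst⟩ := Submodule.mem_span_pair.1 hospan
      have := Fintype.linearIndependent_iff.1 hli3 ![c, -s, -t] (by
        simp [Fin.sum_univ_three, hc, ← hst])
      refine ho0 ?_
      have h1 := this 0
      simp at h1
      rw [← hc, h1, zero_smul]
    obtain ⟨e1, he1⟩ := exists_snoc hop (by norm_num)
    obtain ⟨e2, he2⟩ := exists_snoc he1 (by norm_num)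
    have hli : LinearIndependent K ![o, p, e1, e2] := by
      convert he2 using 1
      funext i; fin_cases i <;> simp [Fin.snoc]
    obtain ⟨φ, hφ, hφd⟩ := exists_coord hli
    let R : Submodule K V := Submodule.span K {e1, e2}
    have hR : Module.finrank K R = 2 := by
      have hl : LinearIndependent K ![e1, e2] := by
        convert hli.comp ![2, 3] (by decide) using 1
        funext i; fin_cases i <;> rfl
      rw [show R = Submodule.span K (Set.range ![e1, e2]) by rw [Matrix.range_cons_cons_empty],
        finrank_span_eq_card hl]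
      simp
    have hφR : ∀ w ∈ R, φ 0 w = 0 ∧ φ 1 w = 0 := fun w hw => by
      obtain ⟨s, t, rfl⟩ := Submodule.mem_span_pair.1 hw
      have a := hφd 0 2; have b := hφd 0 3; have c := hφd 1 2; have e := hφd 1 3
      simp at a b c e
      simp [a, b, c, e]
    have nd : ∀ w ∈ R, w ≠ 0 → T F o w p = 0 → T F w w p ≠ 0 := by
      intro w hw hw0 how hww
      obtain ⟨hw1, hw2⟩ := hφR w hw
      have hφo : ∀ i, φ i o = if (0 : Fin 4) = i then 1 else 0 := fun i => by simpa using hφd i 0
      have hφp : ∀ i, φ i p = if (1 : Fin 4) = i then 1 else 0 := fun i => by simpa using hφd i 1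
      have hl3 : LinearIndependent K ![o, p, w] := by
        rw [Fintype.linearIndependent_iff]
        intro c hc
        simp [Fin.sum_univ_three] at hc
        have c0 := congrArg (φ 0) hc
        have c1 := congrArg (φ 1) hc
        simp [hφo, hφp, hw1, hw2] at c0 c1
        rw [c0, c1, zero_smul, zero_smul, zero_add, zero_add] at hc
        have := (smul_eq_zero.1 hc).resolve_right hw0
        intro i; fin_cases i <;> assumption
      obtain ⟨z, hz⟩ := exists_snoc hl3 (by norm_num)
      have hl4 : LinearIndependent K ![o, p, w, z] := by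
        convert hz using 1
        funext i; fin_cases i <;> simp [Fin.snoc] <;> rfl
      obtain ⟨ψ, hψ, -⟩ := exists_coord hl4
      set A := T F o z p
      set B := T F w z p
      by_cases hA : A = 0
      · obtain ⟨y, hy⟩ := hdeg o hop
        refine hy ?_
        rw [hψ y]
        simp only [add2, smul2, ho, s12 o p, hp2, how, show T F o z p = 0 from hA]
        ring
      · have hk : LinearIndependent K ![B • o + (-A) • w, p] := by
          rw [LinearIndependent.pair_iff]
          intro s t hst
          have := Fintype.linearIndependent_iff.1 hl3 ![s * B, t, -(s * A)] (by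
            simp [Fin.sum_univ_three]; rw [← hst]; module)
          have a2 := this 2
          have a1 := this 1
          simp [hA] at a2 a1
          exact ⟨a2, a1⟩
        obtain ⟨y, hy⟩ := hdeg _ hk
        refine hy ?_
        rw [hψ y]
        simp only [add1, add2, smul1, smul2, ho, s12 o p, s12 w p, hp2, how, hww,
          s12 w o, show T F o z p = A from rfl, show T F w z p = B from rfl]
        ring
    let yw : V → V := fun w => T F w w p • o + (-2 * T F o w p) • w
    by_cases hall : ∀ w ∈ R, T F (yw w) (yw w) (yw w) = 0
    · exfalso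
      have hFo : T F o o o = 0 := by
        have h1 : e1 ∈ R := Submodule.subset_span (by simp)
        have h2 : e2 ∈ R := Submodule.subset_span (by simp)
        let w := T F o e2 p • e1 + (-T F o e1 p) • e2
        obtain ⟨w, hw, hw0, how⟩ : ∃ w ∈ R, w ≠ 0 ∧ T F o w p = 0 := by
          by_cases hw0 : w = 0
          · have d2 := congrArg (φ 3) hw0
            have a := hφd 3 2; have b := hφd 3 3
            simp at a b
            simp [w, a, b] at d2
            exact ⟨e1, h1, fun e => by simpa [e] using hφd 2 2, d2⟩
          · exact ⟨w, R.add_mem (R.smul_mem _ h1) (R.smul_mem _ h2), hw0, by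
              simp only [w, add2, smul2]; ring⟩
        have h := hall w hw
        simp only [yw, how, mul_zero, zero_smul, add_zero, smul1, smul2, smul3] at h
        simpa [nd w hw hw0 how] using h
      obtain ⟨x, hxQ, hxF⟩ := no_quadric hF hp0
      refine hxF ?_
      set z := φ 0 x • o + (φ 2 x • e1 + φ 3 x • e2)
      have hxz : x = φ 1 x • p + z := by
        conv_lhs => rw [hφ x]
        simp only [z]; abel
      rw [hxz, hshift] at hxQ
      rw [hxz, hcube, hxQ, mul_zero, add_zero]
      set w := φ 2 x • e1 + φ 3 x • e2
      have hwR : w ∈ R := Submodule.mem_span_pair.2 ⟨_, _, rfl⟩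
      have hQz : 2 * φ 0 x * T F o w p + T F w w p = 0 := by
        rw [show z = φ 0 x • o + w from rfl, expand_add] at hxQ
        simp only [smul1, smul2, ho] at hxQ
        linear_combination hxQ
      by_cases hB : T F o w p = 0
      · have hw0 : w = 0 := by
          by_contra hw0
          refine nd w hwR hw0 hB ?_
          linear_combination hQz - 2 * φ 0 x * hB
        rw [show z = φ 0 x • o + w from rfl, hw0, add_zero, smul1, smul2, smul3, hFo]; ring
      · have hy : yw w = (-2 * T F o w p) • z := by
          have e : T F w w p = -2 * φ 0 x * T F o w p := by linear_combination hQz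
          simp only [yw, z]
          rw [e]; module
        have h := hall w hwR
        rw [hy] at h
        simp only [smul1, smul2, smul3] at h
        simpa [hB] using h
    push Not at hall
    have hfin := dirs hR (fun w => T F (yw w) (yw w) (yw w))
      (fun t w hw => by
        have : yw (t • w) = (t * t) • yw w := by
          simp only [yw, smul1, smul2, smul_add, smul_smul]
          congr 2 <;> ring
        simp [this, smul1, smul2, smul3, hw])
      (fun g' h' => by
        obtain ⟨P, hP⟩ := poly_path hF fun i =>
          (Polynomial.C (T F g' g' p) + Polynomial.C (2 * T F g' h' p) * Polynomial.X +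
            Polynomial.C (T F h' h' p) * Polynomial.X ^ 2) * Polynomial.C (o i) +
          Polynomial.C (-2 : K) * (Polynomial.C (T F o g' p) + Polynomial.C (T F o h' p) * Polynomial.X) *
            (Polynomial.C (g' i) + Polynomial.C (h' i) * Polynomial.X)
        refine ⟨P, fun r => ?_⟩
        rw [hP]
        have : (fun i => Polynomial.eval r
          ((Polynomial.C (T F g' g' p) + Polynomial.C (2 * T F g' h' p) * Polynomial.X +
            Polynomial.C (T F h' h' p) * Polynomial.X ^ 2) * Polynomial.C (o i) +
          Polynomial.C (-2 : K) * (Polynomial.C (T F o g' p) + Polynomial.C (T F o h' p) * Polynomial.X) *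
            (Polynomial.C (g' i) + Polynomial.C (h' i) * Polynomial.X))) = yw (g' + r • h') := by
          funext i
          simp only [yw, expand_add]
          simp only [add2, smul1, smul2, Pi.add_apply, Pi.smul_apply, smul_eq_mul,
            Polynomial.eval_add, Polynomial.eval_mul, Polynomial.eval_C, Polynomial.eval_X,
            Polynomial.eval_pow]
          ring
        rw [this])
      hall
    refine ((hfin.biUnion fun W hWfin => show
        {U : Submodule K V | ∃ w ∈ W, w ≠ 0 ∧ U = Submodule.span K {yw w, p}}.Finite from ?_).union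
      (Set.finite_singleton (Submodule.span K {o, p}))).subset ?_
    · by_cases hW : ∃ w ∈ W, w ≠ 0 ∧ Module.finrank K W = 1
      · obtain ⟨w0, hw0, hne, hW1⟩ := hW
        refine (Set.finite_singleton (Submodule.span K {yw w0, p})).subset ?_
        rintro U ⟨w, hw, hwne, rfl⟩
        have hWw : W = Submodule.span K {w0} :=
          (Submodule.eq_of_le_of_finrank_le ((Submodule.span_singleton_le_iff_mem _ _).2 hw0)
            (by rw [hW1, finrank_span_singleton hne])).symm
        obtain ⟨c, rfl⟩ := Submodule.mem_span_singleton.1 (hWw ▸ hw)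
        have hc : c ≠ 0 := fun e => hwne (by simp [e])
        have e : yw (c • w0) = (c * c) • yw w0 := by
          simp only [yw, smul1, smul2, smul_add, smul_smul]
          congr 2 <;> ring
        rw [Set.mem_singleton_iff, e]
        refine le_antisymm (Submodule.span_le.2 ?_) (Submodule.span_le.2 ?_)
        · rintro _ (rfl | rfl)
          · exact Submodule.smul_mem _ _ (Submodule.subset_span (by simp))
          · exact Submodule.subset_span (by simp)
        · rintro _ (rfl | rfl)
          · have := Submodule.smul_mem (Submodule.span K {(c * c) • yw w0, p}) (c * c)⁻¹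
              (Submodule.subset_span (Set.mem_insert _ _))
            rwa [smul_smul, inv_mul_cancel₀ (mul_ne_zero hc hc), one_smul] at this
          · exact Submodule.subset_span (by simp)
      · refine Set.Finite.subset (Set.finite_singleton (Submodule.span K {o, p})) ?_
        rintro U ⟨w, hw, hwne, rfl⟩
        exfalso
        exact hW ⟨w, hw, hwne, hWfin.1⟩
    rintro U ⟨⟨hU2, hU⟩, hpU⟩
    obtain ⟨x, hxU, hxp⟩ : ∃ x ∈ U, x ∉ Submodule.span K {p} := by
      by_contra hc
      push Not at hc
      have h1 := Submodule.finrank_mono (show U ≤ Submodule.span K {p} from hc)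
      rw [hU2, finrank_span_singleton hp0] at h1
      omega
    set w := φ 2 x • e1 + φ 3 x • e2 with hwdef
    set z := φ 0 x • o + w
    have hwR : w ∈ R := Submodule.mem_span_pair.2 ⟨_, _, rfl⟩
    have hxz : x = φ 1 x • p + z := by
      conv_lhs => rw [hφ x]
      simp only [z, w]; abel
    have hzU : z ∈ U := by
      rw [show z = x - φ 1 x • p from eq_sub_of_add_eq' hxz.symm]
      exact U.sub_mem hxU (U.smul_mem _ hpU)
    have hzp : z ∉ Submodule.span K {p} := fun h => hxp (by
      rw [hxz]
      exact Submodule.add_mem _ (Submodule.smul_mem _ _ (Submodule.mem_span_singleton_self p)) h)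
    have hUz : Submodule.span K {z, p} = U := span_eq hU2 hzU hpU (li_pair hp0 hzp)
    have hQz : 2 * φ 0 x * T F o w p + T F w w p = 0 := by
      have h := line_tangent hU hzU hpU
      rw [show z = φ 0 x • o + w from rfl, expand_add] at h
      simp only [smul1, smul2, ho] at h
      linear_combination h
    by_cases hw0 : w = 0
    · right
      have hz0 : z = φ 0 x • o := by simp [z, hw0]
      rw [Set.mem_singleton_iff, ← hUz, hz0]
      refine (span_eq (show Module.finrank K ↥(Submodule.span K {o, p}) = 2 from ?_) ?_ ?_ ?_)
      · rw [← Matrix.range_cons_cons_empty o p ![], finrank_span_eq_card hop]; simp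
      · exact Submodule.smul_mem _ _ (Submodule.subset_span (by simp))
      · exact Submodule.subset_span (by simp)
      · rw [← hz0]; exact li_pair hp0 hzp
    left
    have hB : T F o w p ≠ 0 := fun hB => nd w hwR hw0 hB (by linear_combination hQz - 2 * φ 0 x * hB)
    have hy : yw w = (-2 * T F o w p) • z := by
      have e : T F w w p = -2 * φ 0 x * T F o w p := by linear_combination hQz
      simp only [yw, z]
      rw [e]; module
    refine Set.mem_iUnion₂.2 ⟨Submodule.span K {w}, ⟨finrank_span_singleton hw0,
      (Submodule.span_singleton_le_iff_mem _ _).2 hwR, fun v hv => ?_⟩,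
      w, Submodule.mem_span_singleton_self w, hw0, ?_⟩
    · obtain ⟨c, rfl⟩ := Submodule.mem_span_singleton.1 hv
      have : yw (c • w) = (c * c) • yw w := by
        simp only [yw, smul1, smul2, smul_add, smul_smul]
        congr 2 <;> ring
      show T F (yw (c • w)) (yw (c • w)) (yw (c • w)) = 0
      rw [this, hy]
      simp only [smul1, smul2, smul3, hU z hzU, mul_zero]
    · refine (span_eq hU2 (hy ▸ U.smul_mem _ hzU) hpU (li_pair hp0 fun h => hzp ?_)).symm
      rw [hy] at h
      have := Submodule.smul_mem _ (-2 * T F o w p)⁻¹ h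
      rwa [smul_smul, inv_mul_cancel₀ (mul_ne_zero (neg_ne_zero.2 two_ne_zero) hB), one_smul] at this

/-- Without a singular line there are finitely many lines. -/
theorem finite_lines_of_no_singular_line (hF : Good F)
    (hnd : ∀ U : Submodule K V, Module.finrank K U = 2 → ∃ u ∈ U, ¬ Sg F u) :
    {U : Submodule K V | IsLn F U}.Finite := by
  classical
  let 𝒮 : Set (Submodule K V) := {W | Module.finrank K W = 1 ∧ ∀ u ∈ W, Sg F u}
  have hrep : ∀ W ∈ 𝒮, ∃ p, p ≠ 0 ∧ Sg F p ∧ W = Submodule.span K {p} := by
    rintro W ⟨hW, hs⟩
    obtain ⟨p, hp, hp0⟩ := Submodule.exists_mem_ne_zero_of_ne_bot (fun e : W = ⊥ => by rw [e, finrank_bot] at hW; exact zero_ne_one hW)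
    exact ⟨p, hp0, hs p hp, (Submodule.eq_of_le_of_finrank_le
      ((Submodule.span_singleton_le_iff_mem _ _).2 hp) (by rw [hW, finrank_span_singleton hp0])).symm⟩
  have hS : 𝒮.Finite := by
    by_cases hne : ∃ W, W ∈ 𝒮
    swap
    · exact Set.finite_empty.subset fun W hW => hne ⟨W, hW⟩
    obtain ⟨W₀, hW₀⟩ := hne
    obtain ⟨p, hp0, hp, rfl⟩ := hrep W₀ hW₀
    refine ((finite_lines_through hF hp0 hp).biUnion fun U hU => show
      {W ∈ 𝒮 | W ≤ U}.Finite from ?_).union (Set.finite_singleton (Submodule.span K {p})) |>.subset ?_
    · obtain ⟨u, hu, hus⟩ := hnd U hU.1.1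
      simp only [Sg, not_forall] at hus
      obtain ⟨y, hy⟩ := hus
      refine (dirs hU.1.1 (fun x => T F x x y) (fun t x hx => by simp [smul1, smul2, hx])
        (fun g h => ⟨Polynomial.C (T F g g y) + Polynomial.C (2 * T F g h y) * Polynomial.X +
          Polynomial.C (T F h h y) * Polynomial.X ^ 2, fun r => by
            simp only [expand_add, smul1, smul2, Polynomial.eval_add, Polynomial.eval_mul,
              Polynomial.eval_C, Polynomial.eval_X, Polynomial.eval_pow]
            ring⟩) ⟨u, hu, hy⟩).subset ?_
      rintro W ⟨⟨hW1, hWs⟩, hWU⟩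
      exact ⟨hW1, hWU, fun x hx => hWs x hx y⟩
    intro W hW
    obtain ⟨q, hq0, hq, rfl⟩ := hrep W hW
    by_cases hqp : q ∈ Submodule.span K {p}
    · right
      exact Submodule.eq_of_le_of_finrank_le ((Submodule.span_singleton_le_iff_mem _ _).2 hqp)
        (by rw [finrank_span_singleton hq0, finrank_span_singleton hp0])
    left
    refine Set.mem_iUnion₂.2 ⟨Submodule.span K {q, p}, ⟨⟨?_, fun x hx => ?_⟩, ?_⟩, hW, ?_⟩
    · rw [← Matrix.range_cons_cons_empty q p ![], finrank_span_eq_card (li_pair hp0 hqp)]; simp
    · obtain ⟨s, t, rfl⟩ := Submodule.mem_span_pair.1 hx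
      rw [expand_cube]
      simp only [smul1, smul2, smul3, hp p, hp q, hq p, hq q]
      ring
    · exact Submodule.subset_span (by simp)
    · exact Submodule.span_mono (by simp)
  refine ((FiniteLines.finite_lines_avoiding (d := 3) le_rfl hF.hom).union
    (hS.biUnion fun W hW => show {U : Submodule K V | IsLn F U ∧ W ≤ U}.Finite from ?_)).subset ?_
  · obtain ⟨p, hp0, hp, rfl⟩ := hrep W hW
    exact (finite_lines_through hF hp0 hp).subset fun U hU =>
      ⟨hU.1, (Submodule.span_singleton_le_iff_mem _ _).1 hU.2⟩
  intro U hU
  by_cases hsm : ∀ u ∈ U, u ≠ 0 → ∃ i : Fin 4, eval u (pderiv i F) ≠ 0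
  · left
    exact ⟨hU.1, fun u hu => by rw [eval_eq hF.hom]; exact hU.2 u hu, hsm⟩
  · right
    push Not at hsm
    obtain ⟨u, hu, hu0, hus⟩ := hsm
    refine Set.mem_iUnion₂.2 ⟨Submodule.span K {u}, ⟨finrank_span_singleton hu0, fun v hv y => ?_⟩,
      hU, (Submodule.span_singleton_le_iff_mem _ _).2 hu⟩
    obtain ⟨c, rfl⟩ := Submodule.mem_span_singleton.1 hv
    rw [smul1, smul2, (singular_iff hF.hom u).1 hus y, mul_zero, mul_zero]

end Groth.Agent.Lib.LefPen45.TPoints
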